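import Cfsg.Agent.StdRank2.UStart.Main
import Cfsg.Agent.StdRank2.OutB2Inv
import Cfsg.Agent.StdRank2.B2Conn

/-!
# Existence of `Sit` for the types `U₄(q)`, `U₅(q)`
-/

set_option autoImplicit false
set_option linter.unusedSectionVars false

namespace Cfsg.Agent.StdRank2.UStart

open Subgroup
open Cfsg.Agent.TitsThree.B2Pkg Cfsg.Agent.TitsThree.RankTwoIdentB2
  Cfsg.Agent.TitsThree.CoreB2 Cfsg.Agent.TitsThree.RankTwoIdx Cfsg.Agent.TitsThree.RankTwoRGD
  Cfsg.Agent.TitsThree.StdData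
open Cfsg.Agent.StdRank2.OddLift Cfsg.Agent.StdRank2.B2Lift Cfsg.Agent.StdRank2.B2Std
  Cfsg.Agent.StdRank2.B2Torus Cfsg.Agent.StdRank2.B2Act Cfsg.Agent.StdRank2.B2Act.Std
  Cfsg.Agent.StdRank2.B2Par Cfsg.Agent.StdRank2.B2Par.Std Cfsg.Agent.StdRank2.B2Self
  Cfsg.Agent.StdRank2.B2Amb
open Cfsg Cfsg.Agent.SignalizersComponents Cfsg.Agent.StdEven.Syl Cfsg.Agent.StdEven.Loc
open Cfsg.Agent.StdEven.Perf Cfsg.Agent.StdEven.Avg Cfsg.Agent.StdL2.Setup Cfsg.Agent.Schreier.Basic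
open Cfsg.Agent.StdEven Cfsg.Agent.StdRank2.UFour
open Cfsg.Agent.StdRank2.OutB2Par Cfsg.Agent.StdRank2.OutB2G Cfsg.Agent.StdRank2.OutB2Aut
  Cfsg.Agent.StdRank2.OutB2Tw Cfsg.Agent.StdRank2.OutB2Data Cfsg.Agent.StdRank2.OutB2Inv
open scoped commutatorElement

universe u

section dat

variable {F : Type*} [Field F] [CharP F 2] (B : Bar F)

theorem udat0 : UDat (stdU0 F B.s B.invol) where
  ε := rfl
  ok c := by
    change c + B.s c = 0 ↔ B.s c = c
    constructor
    · intro h; exact (eq_of_add h).symm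
    · intro h; exact add_eq h.symm
  ne := B.ne

theorem udat1 : UDat (stdU1 F B.s B.invol) where
  ε := rfl
  ok c := by
    change c + B.s c = -(0 * B.s 0) ↔ B.s c = c
    rw [zero_mul, neg_zero]
    constructor
    · intro h; exact (eq_of_add h).symm
    · intro h; exact add_eq h.symm
  ne := B.ne

theorem s_ne_one : B.s ≠ 1 := by
  intro h
  obtain ⟨x, hx⟩ := B.ne
  exact hx (by rw [h]; rfl)

variable [Finite F]

theorem card_Fx_lt {V : Type*} [AddCommGroup V] [Module F V] {D : PQDatum F V} (hD : UDat D) :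
    Nat.card (Fx D) < Nat.card F := by
  rw [← card_Fx hD]
  have h1 : 1 < Nat.card (Fx D) := by
    have : Nontrivial (Fx D) := ⟨⟨⟨0, map_zero _⟩, ⟨1, map_one _⟩, fun h => zero_ne_one (congrArg Subtype.val h)⟩⟩
    exact Finite.one_lt_card
  nlinarith

theorem card_T0 : Nat.card (stdU0 F B.s B.invol).T ≠ Nat.card F := by
  have h1 := card_Fx_lt (udat0 B)
  have h2 : Nat.card (stdU0 F B.s B.invol).T ≤ Nat.card (Fx (stdU0 F B.s B.invol)) := by
    apply Nat.card_le_card_of_injective (fun p => (⟨p.c, (udat0 B).σ_c (Subsingleton.elim _ _)⟩ : Fx (stdU0 F B.s B.invol)))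
    intro p q h
    exact T_ext (Subsingleton.elim _ _) (congrArg Subtype.val h)
  omega

instance : Finite (stdU1 F B.s B.invol).T :=
  Finite.of_injective (fun p => (p.w, p.c)) fun p q h =>
    T_ext (congrArg Prod.fst h) (congrArg Prod.snd h)

theorem card_T1 : Nat.card (stdU1 F B.s B.invol).T ≠ Nat.card F := by
  have hD := udat1 B
  have h1 : ∀ w : F, ∃ q : (stdU1 F B.s B.invol).T, q.w = w := exists_w B.s B.invol (s_ne_one B)
  choose g hg using h1
  have h2 : Nat.card (F × Fx (stdU1 F B.s B.invol)) ≤ Nat.card (stdU1 F B.s B.invol).T := by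
    apply Nat.card_le_card_of_injective (fun z => g z.1 * hD.c0 z.2.2)
    rintro ⟨w, k, hk⟩ ⟨w', k', hk'⟩ h
    have h3 : (g w * hD.c0 hk).w = (g w' * hD.c0 hk').w := congrArg PQDatum.T.w h
    rw [PQDatum.T.mul_w, PQDatum.T.mul_w, hg, hg] at h3
    have h4 : w = w' := by
      have h5 : w + 0 = w' + 0 := h3
      rwa [add_zero, add_zero] at h5
    subst h4
    have h6 := congrArg PQDatum.T.c (mul_left_cancel h)
    have h7 : k = k' := h6
    subst h7
    rfl
  rw [Nat.card_prod] at h2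
  have h3 : 1 < Nat.card (Fx (stdU1 F B.s B.invol)) := by
    have : Nontrivial (Fx (stdU1 F B.s B.invol)) :=
      ⟨⟨⟨0, map_zero _⟩, ⟨1, map_one _⟩, fun h => zero_ne_one (congrArg Subtype.val h)⟩⟩
    exact Finite.one_lt_card
  have h4 : 0 < Nat.card F := Nat.card_pos
  nlinarith

end dat

variable {F : Type*} [Field F] [Finite F] [CharP F 2] {V : Type*} [AddCommGroup V] [Module F V]
  {D : PQDatum F V}
variable {G : Type u} [Group G] {A L : Subgroup G} {S : B2Std.Std D ↥A} {t : G} {T : Subgroup G} {N : FData D}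

/-- From adapted coordinates. -/
theorem sit_of_adapted (h : IsT A t T) (hU : T ⊓ A = UG S) (had : Adapted N S T) : Sit S t T where
  isT := h
  TU x := by
    constructor
    · intro hx
      have h1 : (x : G) ∈ UG S := by rw [← hU]; exact ⟨hx, x.2⟩
      obtain ⟨u, hu, e⟩ := h1
      rwa [← Subtype.ext e]
    · intro hx
      have h1 : (x : G) ∈ T ⊓ A := by rw [hU]; exact ⟨x, hx, rfl⟩
      exact h1.1
  sem := by
    intro f hf
    obtain ⟨u, hu, ρ, -, hfld⟩ := had f hf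
    obtain ⟨v, hv, rfl⟩ := hu
    have hw : ∀ r : D.T, r.w = 0 → (N.T ρ r).w = 0 := by
      intro r hr
      show N.r ρ r.w = 0
      rw [hr, map_zero]
    have hconj : ∀ a b : G, (A.subtype v * f) * a * (A.subtype v * f)⁻¹ = b →
        f * a * f⁻¹ = (v : G)⁻¹ * b * (v : G) := by
      rintro a b rfl
      show f * a * f⁻¹ = (v : G)⁻¹ * ((v : G) * f * a * ((v : G) * f)⁻¹) * (v : G)
      group
    refine ⟨1, ρ, one_ne_zero, ⟨?_, ?_⟩, ?_⟩
    · intro r hr
      refine ⟨N.T ρ r, hw r hr, ?_⟩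
      rw [hconj _ _ (hfld.z₁ r)]
      have h1 := z₁_comm_U (S := S) (hw r hr) (v := v) hv
      have h2 := congrArg Subtype.val h1
      have h3 : ((S.m.z₁ (N.T ρ r) : ↥A) : G) * v = v * (S.m.z₁ (N.T ρ r) : ↥A) := h2
      rw [mul_assoc, h3]
      group
    · intro b
      -- `v⁻¹ y(ρ b) v`
      obtain ⟨a, ha⟩ := exists_PX (inv_mem hv)
      obtain ⟨w, hwV, e⟩ := PX.decomp ha
      have h1 : v⁻¹ * S.m.y (ρ b) * v = S.m.z₁ (D.tr a (ρ b)) * S.m.y (ρ b) := by
        have h2 : v = (S.m.x a * w)⁻¹ := by rw [← e, inv_inv]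
        rw [h2, inv_inv]
        have h3 := y_comm_VI (S := S) (ρ b) hwV
        calc S.m.x a * w * S.m.y (ρ b) * (S.m.x a * w)⁻¹
            = S.m.x a * (w * S.m.y (ρ b)) * w⁻¹ * (S.m.x a)⁻¹ := by group
          _ = S.m.x a * (S.m.y (ρ b) * w) * w⁻¹ * (S.m.x a)⁻¹ := by rw [h3]
          _ = ⁅S.m.x a, S.m.y (ρ b)⁆ * S.m.y (ρ b) := by rw [commutatorElement_def]; group
          _ = _ := by rw [S.rel.x_y]
      refine ⟨D.tr a (ρ b), rfl, ?_⟩
      rw [hconj _ _ (hfld.y b), one_mul]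
      exact congrArg Subtype.val h1
    · rintro rfl
      refine ⟨(v : G)⁻¹, inv_mem v.2, ?_⟩
      rw [inv_inv]
      exact fld_cent hfld

variable [Finite G]

theorem isT_conj (C : Conf L A t) (hT : IsT A t T) {a : G} (ha : a ∈ A) :
    IsT A t (T.map (MulAut.conj a).toMonoidHom) := by
  have hat : a * t = t * a := (comm_of_centralizer C.htA ha).symm
  have hat' : a⁻¹ * t * a = t := by rw [mul_assoc, ← hat, inv_mul_cancel_left]
  have haN : a ∈ normalizer (A : Set G) := le_normalizer ha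
  refine ⟨hT.syl.conj (le_normalizer haN), ?_, ?_, ?_⟩
  · rw [mem_map_conj, hat']; exact hT.mem
  · intro x hx
    rw [mem_map_conj] at hx
    have h1 := hT.cent _ hx
    calc x * t = a * ((a⁻¹ * x * a) * (a⁻¹ * t * a)) * a⁻¹ := by group
      _ = a * ((a⁻¹ * t * a) * (a⁻¹ * x * a)) * a⁻¹ := by rw [hat', h1]
      _ = t * x := by group
  · intro r hr hrK hrr
    have h1 : a⁻¹ * r * a = r := by
      rw [mul_assoc, comm_of_centralizer hrK ha, inv_mul_cancel_left]
    rw [mem_map_conj, h1] at hr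
    exact hT.uniq r hr hrK hrr

/-- `U` is Sylow in `A`. -/
theorem isSyl_UG [Finite D.T] (hsc : Scal D) (hZ : Odd (Nat.card (center ↥A))) (S : B2Std.Std D ↥A) :
    IsSyl (UG S) A := by
  obtain ⟨P, hP⟩ := B2Torus.Std.exists_sylow S hsc hZ
  refine ⟨UG_le S, ?_, fun X hX hXA hle => ?_⟩
  · have h1 := P.isPGroup'
    rw [hP] at h1
    exact h1.map A.subtype
  · have h1 : (P : Subgroup ↥A) ≤ X.subgroupOf A := by
      rw [hP]
      intro x hx
      exact mem_subgroupOf.mpr (hle ⟨x, hx, rfl⟩)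
    have h2 := P.is_maximal' hX.comap_subtype h1
    apply le_antisymm _ hle
    intro x hx
    have h3 : (⟨x, hXA hx⟩ : A) ∈ X.subgroupOf A := mem_subgroupOf.mpr hx
    have h4 : (⟨x, hXA hx⟩ : A) ∈ (P : Subgroup ↥A) := h2 ▸ h3
    rw [hP] at h4
    exact ⟨_, h4, rfl⟩

/-- **Existence of adapted data.** -/
theorem exists_adapted' (C : Conf L A t) (hZ : Odd (Nat.card (center ↥A))) [Finite D.T] (hN : Ty.{u} N)
    (hcard : Nat.card D.T ≠ Nat.card F) (S : B2Std.Std D ↥A) :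
    ∃ (T : Subgroup G) (S' : B2Std.Std D ↥A), IsT A t T ∧ T ⊓ A = UG S' ∧ Adapted N S' T := by
  have hs : IsSimpleGroup (↥A ⧸ center ↥A) := C.std.1.2
  obtain ⟨T0, hT0⟩ := exists_isT C.std C.ht C.htA C.cyc
  have hU := isSyl_UG hN.scal hZ S
  obtain ⟨a, ha, hc⟩ := hT0.sylA.exists_conj hU.two hU.le
  set T := T0.map (MulAut.conj a⁻¹).toMonoidHom with hTdef
  have hT : IsT A t T := isT_conj C hT0 (inv_mem ha)
  have hUT : UG S ≤ T := by
    intro u hu
    rw [hTdef, mem_map_conj, inv_inv]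
    exact (hc u hu).1
  have hUT' : T ⊓ A = UG S :=
    hU.max _ (hT.syl.two.to_le inf_le_left) inf_le_right (le_inf hUT hU.le)
  obtain ⟨c, hc⟩ := OutB2G.exists_adapted hZ S hN hcard T hT.syl.two hT.syl.le (by
    intro y hy u hu
    rw [← hUT'] at hu ⊢
    exact mem_inf.mpr ⟨mul_mem (mul_mem hy hu.1) (inv_mem hy),
      conj_mem_of_mem_normalizer (hT.syl.le hy) hu.2⟩)
  exact ⟨T, _, hT, by rw [hUT', UG_tw], hc⟩

end Cfsg.Agent.StdRank2.UStart
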