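import Cfsg.Agent.StdRank2.B2Amb

/-!
# The subgroup `W = z₁(0,·) y(F) z₂(0,·)` of a group of type `U₄(q)`, `U₅(q)`, `q` even

`UDat D`: parameters of unitary type.  Involutions of `U` are conjugate into `W`; `W` as a module.
-/

set_option autoImplicit false
set_option linter.unusedSectionVars false

namespace Cfsg.Agent.StdRank2.UStart

open Subgroup
open Cfsg.Agent.TitsThree.B2Pkg Cfsg.Agent.TitsThree.RankTwoIdentB2
  Cfsg.Agent.TitsThree.CoreB2 Cfsg.Agent.TitsThree.RankTwoIdx Cfsg.Agent.TitsThree.RankTwoRGD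
open Cfsg.Agent.StdRank2.OddLift Cfsg.Agent.StdRank2.B2Lift Cfsg.Agent.StdRank2.B2Std
  Cfsg.Agent.StdRank2.B2Torus Cfsg.Agent.StdRank2.B2Act Cfsg.Agent.StdRank2.B2Act.Std
  Cfsg.Agent.StdRank2.B2Par Cfsg.Agent.StdRank2.B2Par.Std Cfsg.Agent.StdRank2.B2Self
  Cfsg.Agent.StdRank2.B2Amb
open scoped commutatorElement

universe u

variable {F : Type*} [Field F] {V : Type*} [AddCommGroup V] [Module F V] {D : PQDatum F V}

/-- Parameters of unitary type in characteristic two. -/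
structure UDat (D : PQDatum F V) : Prop where
  ε : D.ε = 1
  ok : ∀ c, D.ok 0 c ↔ D.σ c = c
  ne : ∃ c, D.σ c ≠ c

section par

variable [CharP F 2]

theorem eq_of_add {a b : F} (h : a + b = 0) : a = b := by
  rw [eq_neg_of_add_eq_zero_left h, CharTwo.neg_eq]

theorem add_eq {a b : F} (h : a = b) : a + b = 0 := by
  rw [h, CharTwo.add_self_eq_zero]

theorem T_ext {p q : D.T} (h1 : p.w = q.w) (h2 : p.c = q.c) : p = q := PQDatum.T.ext h1 h2

variable (hD : UDat D)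
include hD

theorem UDat.σ_c {p : D.T} (hp : p.w = 0) : D.σ p.c = p.c := by
  rw [← hD.ok, ← hp]; exact p.ok

/-- the element `(0, k)` -/
def UDat.c0 {k : F} (hk : D.σ k = k) : D.T := ⟨0, k, (hD.ok k).2 hk⟩

theorem UDat.ani {p : D.T} (hp : D.h p.w p.w = 0) : p.w = 0 := by
  have h1 := p.rel
  rw [hp, neg_zero, hD.ε, one_mul] at h1
  have h2 : D.σ p.c = p.c := (eq_of_add h1).symm
  have h3 : (p * hD.c0 h2).c = 0 := by
    rw [PQDatum.T.mul_c]
    show p.c + p.c - D.h 0 p.w = 0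
    rw [D.zero_left, CharTwo.add_self_eq_zero, sub_zero]
  have h4 := PQDatum.T.c_eq_zero_iff.1 h3
  have h5 := congrArg PQDatum.T.w h4
  have h6 : p.w + 0 = 0 := h5
  rwa [add_zero] at h6

theorem UDat.sq {p : D.T} (hp : p.w = 0) : p * p = 1 := by
  apply T_ext
  · rw [PQDatum.T.mul_w, hp, add_zero]; rfl
  · rw [PQDatum.T.mul_c, hp, D.zero_left, CharTwo.add_self_eq_zero, sub_zero]; rfl

theorem UDat.sq_iff {p : D.T} : p * p = 1 ↔ p.w = 0 := by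
  constructor
  · intro h
    apply hD.ani
    have h1 := congrArg PQDatum.T.c h
    rw [PQDatum.T.mul_c, CharTwo.add_self_eq_zero, zero_sub] at h1
    exact neg_eq_zero.1 h1
  · exact hD.sq

theorem UDat.inv_eq {p : D.T} (hp : p.w = 0) : p⁻¹ = p :=
  inv_eq_of_mul_eq_one_left (hD.sq hp)

/-- an element of trace one -/
theorem UDat.exists_tr : ∃ τ : F, τ + D.σ τ = 1 := by
  obtain ⟨x, hx⟩ := hD.ne
  have hd : x + D.σ x ≠ 0 := fun h => hx (eq_of_add h).symm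
  refine ⟨x * (x + D.σ x)⁻¹, ?_⟩
  rw [map_mul, map_inv₀, map_add, D.σσ, add_comm (D.σ x) x, ← add_mul, mul_inv_cancel₀ hd]

theorem UDat.tr_c (a b : F) : (D.tr a b).c = D.σ a * b + a * D.σ b := by
  rw [PQDatum.tr_c, hD.ε, one_mul, CharTwo.sub_eq_add]

/-- `tr a` maps onto the elements with `w = 0`. -/
theorem UDat.exists_tr_eq {a : F} (ha : a ≠ 0) {r : D.T} (hr : r.w = 0) : ∃ b, D.tr a b = r := by
  obtain ⟨τ, hτ⟩ := hD.exists_tr
  have h1 := hD.σ_c hr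
  have h2 := D.σ_ne ha
  refine ⟨r.c * τ * (D.σ a)⁻¹, T_ext hr.symm ?_⟩
  rw [hD.tr_c, map_mul, map_mul, map_inv₀, D.σσ, h1]
  field_simp
  rw [hτ, mul_one]

theorem UDat.tr_eq_one {a b : F} (ha : a ≠ 0) (h : D.tr a b = 1) : D.σ (b * a⁻¹) = b * a⁻¹ := by
  have h1 := congrArg PQDatum.T.c h
  rw [hD.tr_c] at h1
  have h2 := eq_of_add (show D.σ a * b + a * D.σ b = 0 from h1)
  have h3 := D.σ_ne ha
  rw [map_mul, map_inv₀]
  field_simp
  rw [mul_comm, ← h2]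

theorem UDat.tr_self (a : F) : D.tr a a = 1 := by
  refine T_ext (by rfl) ?_
  rw [hD.tr_c, mul_comm, CharTwo.add_self_eq_zero]
  rfl

end par

section grp

variable {A : Type u} [Group A] {S : B2Std.Std D A} [Finite F] [CharP F 2] (hD : UDat D)

theorem ccomp {A : Type*} [Group A] {g k a b c : A} (h1 : g * a * g⁻¹ = b) (h2 : k * b * k⁻¹ = c) :
    (k * g) * a * (k * g)⁻¹ = c := by
  rw [← h2, ← h1]; group

/-- The subgroup `W`. -/
def WS (S : B2Std.Std D A) : Subgroup A where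
  carrier := {v | IsW' S v}
  mul_mem' := fun h h' => h.mul h'
  one_mem' := ⟨1, 0, 1, rfl, rfl, by
    rw [mul_one' S.rel.z₁_mul, add_zero' S.rel.y_add, mul_one' S.rel.z₂_mul, one_mul, one_mul]⟩
  inv_mem' := fun h => h.inv

theorem mem_WS {v : A} : v ∈ WS S ↔ IsW' S v := Iff.rfl

theorem isW_iff {v : A} : IsW' S v ↔ ∃ r b s, r.w = 0 ∧ s.w = 0 ∧ v = nf S.m 0 r b s := by
  constructor
  · rintro ⟨r, b, s, hr, hs, rfl⟩
    refine ⟨r, b, s, hr, hs, ?_⟩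
    unfold B2Std.nf
    rw [add_zero' S.rel.x_add, one_mul]
  · rintro ⟨r, b, s, hr, hs, rfl⟩
    refine ⟨r, b, s, hr, hs, ?_⟩
    unfold B2Std.nf
    rw [add_zero' S.rel.x_add, one_mul]

theorem nf_mem_W {r s : D.T} (hr : r.w = 0) (hs : s.w = 0) (b : F) : IsW' S (nf S.m 0 r b s) :=
  isW_iff.2 ⟨r, b, s, hr, hs, rfl⟩

include hD in
theorem W_sq {v : A} (hv : IsW' S v) : v * v = 1 := by
  obtain ⟨r, b, s, hr, hs, rfl⟩ := isW_iff.1 hv
  rw [mul_nf S.rel, ← nf_one S.rel]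
  have e1 : D.tr 0 b = 1 := by
    refine T_ext (by rfl) ?_
    rw [hD.tr_c, map_zero, zero_mul, zero_mul, add_zero]; rfl
  have e2 : D.sc (-0) s = 1 := by
    apply T_ext
    · rw [PQDatum.sc_w, hs, smul_zero]; rfl
    · rw [PQDatum.sc_c, neg_zero, zero_mul, zero_mul]; rfl
  rw [e1, e2, hr, D.zero_right, hD.sq hs, inv_one, mul_one, mul_one, hD.sq hr, add_zero, mul_zero, zero_mul,
    add_zero, add_zero, CharTwo.add_self_eq_zero]

include hD in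
/-- The involutions of `V_I` lie in `W`. -/
theorem mem_W_of_sq {v : A} (hv : PX S v 0) (h2 : v * v = 1) : IsW' S v := by
  obtain ⟨p, b, q, rfl⟩ := hv
  rw [mul_nf S.rel, ← nf_one S.rel] at h2
  obtain ⟨-, h3, -, h5⟩ := S.nf_inj h2
  have e1 : D.tr 0 b = 1 := by
    refine T_ext (by rfl) ?_
    rw [hD.tr_c, map_zero, zero_mul, zero_mul, add_zero]; rfl
  have e2 : D.sc (-0) q = 1 := by
    apply T_ext
    · rw [PQDatum.sc_w, neg_zero, map_zero, zero_smul]; rfl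
    · rw [PQDatum.sc_c, neg_zero, zero_mul, zero_mul]; rfl
  rw [e1, e2, inv_one, mul_one, mul_one] at h3
  exact nf_mem_W (hD.sq_iff.1 h3) (hD.sq_iff.1 h5) b

include hD in
/-- Squares: an involution with nontrivial first coordinate has the form `x a * z₁ p * y b`. -/
theorem form_of_sq {a : F} (ha : a ≠ 0) {v : A} (hv : PX S v a) (h2 : v * v = 1) :
    ∃ p b, v = nf S.m a p b 1 := by
  obtain ⟨p, b, q, rfl⟩ := hv
  rw [mul_nf S.rel, ← nf_one S.rel] at h2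
  obtain ⟨-, -, h4, h5⟩ := S.nf_inj h2
  have hq := hD.sq_iff.1 h5
  have h6 : D.σ q.c = 0 := by
    rw [hq, D.zero_left, add_zero, hD.ε, one_mul] at h4
    have h7 : b + b = 0 := CharTwo.add_self_eq_zero b
    have h8 : a * D.σ q.c = 0 := by linear_combination h4 - h7
    exact (mul_eq_zero.1 h8).resolve_left ha
  have h7 : q.c = 0 := by
    by_contra hcon
    exact D.σ_ne hcon h6
  rw [PQDatum.T.c_eq_zero_iff.1 h7]
  exact ⟨p, b, rfl⟩

/-- conjugation of `nf a p b 1` by `z₂ r` -/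
theorem conj_z₂ (hD : UDat D) (a : F) (p : D.T) (b : F) (r : D.T) : ∃ b',
    S.m.z₂ r * nf S.m a p b 1 * (S.m.z₂ r)⁻¹ = nf S.m a (D.sc (-a) r * p) b' 1 ∧
      b' = a * D.σ r.c + D.h r.w p.w + b := by
  refine ⟨_, ?_, rfl⟩
  rw [mul_inv_eq_iff_eq_mul, z₂_eq_nf S.rel, mul_nf S.rel, mul_nf S.rel]
  have e0 : ∀ c : F, D.tr c 0 = 1 := fun c => by
    refine T_ext (by rfl) ?_
    rw [hD.tr_c, map_zero, mul_zero, mul_zero, add_zero]; rfl
  have e0' : ∀ c : F, D.tr 0 c = 1 := fun c => by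
    refine T_ext (by rfl) ?_
    rw [hD.tr_c, map_zero, zero_mul, zero_mul, add_zero]; rfl
  have e2 : D.sc (-0) (1 : D.T) = 1 := by
    apply T_ext
    · rw [PQDatum.sc_w, PQDatum.T.one_w, smul_zero]
    · rw [PQDatum.sc_c, PQDatum.T.one_c, mul_zero]
  have e3 : D.h (1 : D.T).w (1 : D.T).w = 0 := by rw [PQDatum.T.one_w, D.zero_left]
  rw [e0, e0', e2, e3, hD.ε, PQDatum.T.one_c, map_zero]
  congr 1
  · rw [zero_add, add_zero]
  · rw [inv_one, one_mul, one_mul, mul_one, mul_one, mul_one]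
  · ring
  · rw [mul_one, one_mul]

include hD in
/-- **Every involution of `U` is conjugate into `W`.** -/
theorem into {u : A} (hu : u ∈ S.U) (h2 : u * u = 1) : ∃ a : A, IsW' S (a * u * a⁻¹) := by
  obtain ⟨a, ha⟩ := exists_PX hu
  by_cases ha0 : a = 0
  · subst ha0
    exact ⟨1, by simpa using mem_W_of_sq hD ha h2⟩
  obtain ⟨p, b, rfl⟩ := form_of_sq hD ha0 ha h2
  -- first conjugation
  have hna : -a ≠ 0 := neg_ne_zero.2 ha0
  obtain ⟨b1, h3, -⟩ := conj_z₂ (S := S) hD a p b (D.sc (-a)⁻¹ p⁻¹)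
  rw [D.sc_sc, mul_inv_cancel₀ hna, D.sc_one, inv_mul_cancel] at h3
  have h4 : nf S.m a 1 b1 1 * nf S.m a 1 b1 1 = 1 := by
    rw [← h3]
    calc _ = S.m.z₂ (D.sc (-a)⁻¹ p⁻¹) * (nf S.m a p b 1 * nf S.m a p b 1) * (S.m.z₂ (D.sc (-a)⁻¹ p⁻¹))⁻¹ := by
          group
      _ = 1 := by rw [h2]; group
  have h5 : D.tr a b1 = 1 := by
    rw [mul_nf S.rel, ← nf_one S.rel] at h4
    obtain ⟨-, h6, -, -⟩ := S.nf_inj h4
    have e2 : D.sc (-a) (1 : D.T) = 1 := by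
      apply T_ext
      · rw [PQDatum.sc_w, PQDatum.T.one_w, smul_zero]
      · rw [PQDatum.sc_c, PQDatum.T.one_c, mul_zero]
    rw [e2, mul_one, mul_one, one_mul, inv_eq_one] at h6
    exact h6
  -- second conjugation
  have h6 := hD.tr_eq_one ha0 h5
  obtain ⟨b2, h7, h8⟩ := conj_z₂ (S := S) hD a 1 b1 (hD.c0 h6)
  have h9 : b2 = 0 := by
    rw [h8]
    show a * D.σ (b1 * a⁻¹) + D.h 0 0 + b1 = 0
    rw [h6, D.zero_left, add_zero, mul_comm b1, ← mul_assoc, mul_inv_cancel₀ ha0, one_mul,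
      CharTwo.add_self_eq_zero]
  rw [h9, mul_one] at h7
  -- third conjugation
  have hr : (D.sc (-a) (hD.c0 h6)).w = 0 := by
    rw [PQDatum.sc_w]
    show D.σ (-a) • (0 : V) = 0
    rw [smul_zero]
  obtain ⟨c, hc⟩ := hD.exists_tr_eq ha0 hr
  have h10 : S.m.y c * nf S.m a (D.sc (-a) (hD.c0 h6)) 0 1 * (S.m.y c)⁻¹ = S.m.x a := by
    rw [mul_inv_eq_iff_eq_mul]
    unfold B2Std.nf
    rw [add_zero' S.rel.y_add, mul_one' S.rel.z₂_mul, mul_one, mul_one, ← mul_assoc, y_x S.rel, hc]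
    calc S.m.x a * S.m.z₁ (D.sc (-a) (hD.c0 h6))⁻¹ * S.m.y c * S.m.z₁ (D.sc (-a) (hD.c0 h6))
        = S.m.x a * S.m.z₁ (D.sc (-a) (hD.c0 h6))⁻¹ * (S.m.y c * S.m.z₁ (D.sc (-a) (hD.c0 h6))) := by group
      _ = S.m.x a * S.m.z₁ (D.sc (-a) (hD.c0 h6))⁻¹ * (S.m.z₁ (D.sc (-a) (hD.c0 h6)) * S.m.y c) := by
          rw [(S.rel.y_z₁ _ _).eq]
      _ = S.m.x a * (S.m.z₁ (D.sc (-a) (hD.c0 h6))⁻¹ * S.m.z₁ (D.sc (-a) (hD.c0 h6))) * S.m.y c := by group
      _ = S.m.x a * S.m.y c := by rw [mul_inv' S.rel.z₁_mul, inv_mul_cancel, mul_one]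
  have h11 := ccomp (ccomp (ccomp h3 h7) h10) (S.rel.nII_x _ S.hp₀ a)
  refine ⟨S.m.nII S.p₀ * (S.m.y c * (S.m.z₂ (hD.c0 h6) * S.m.z₂ (D.sc (-a)⁻¹ p⁻¹))), ?_⟩
  rw [h11]
  exact ⟨1, _, 1, rfl, rfl, by rw [mul_one' S.rel.z₁_mul, mul_one' S.rel.z₂_mul, one_mul, mul_one]⟩

end grp

end Cfsg.Agent.StdRank2.UStart
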