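import Cfsg.Agent.StdRank2.UStart.Sit
import Cfsg.Agent.StdRank2.UFour.MoverG

/-!
# The mover in `X = N_G(O)/O`, types `U₄(q)`, `U₅(q)`
-/

set_option autoImplicit false
set_option linter.unusedSectionVars false

namespace Cfsg.Agent.StdRank2.UStart

open Subgroup
open Cfsg.Agent.TitsThree.B2Pkg Cfsg.Agent.TitsThree.RankTwoIdentB2
  Cfsg.Agent.TitsThree.CoreB2 Cfsg.Agent.TitsThree.RankTwoIdx Cfsg.Agent.TitsThree.RankTwoRGD
  Cfsg.Agent.TitsThree.StdData
open Cfsg.Agent.StdRank2.OddLift Cfsg.Agent.StdRank2.B2Lift Cfsg.Agent.StdRank2.B2Std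
  Cfsg.Agent.StdRank2.B2Torus Cfsg.Agent.StdRank2.B2Act Cfsg.Agent.StdRank2.B2Act.Std
  Cfsg.Agent.StdRank2.B2Par Cfsg.Agent.StdRank2.B2Par.Std Cfsg.Agent.StdRank2.B2Self
  Cfsg.Agent.StdRank2.B2Amb Cfsg.Agent.StdRank2.B2Conn Cfsg.Agent.StdRank2.UEnvW
open Cfsg Cfsg.Agent.SignalizersComponents Cfsg.Agent.StdEven.Syl Cfsg.Agent.StdEven.Loc
open Cfsg.Agent.StdEven.Perf Cfsg.Agent.StdL2.Setup Cfsg.Agent.Schreier.Basic
open Cfsg.Agent.StdEven Cfsg.Agent.StdRank2.UFour Cfsg.Agent.StdEven.CoreQuot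
open scoped commutatorElement

universe u

variable {F : Type*} [Field F] [Finite F] [CharP F 2] {V : Type*} [AddCommGroup V] [Module F V]
  {D : PQDatum F V} {B : Bar F}
variable {G : Type u} [Group G] [Finite G] {A L : Subgroup G} {S : B2Std.Std D ↥A} {t : G} {T : Subgroup G}

/-- The group `C_T(J)`. -/
def CJ (S : B2Std.Std D ↥A) (t : G) (T : Subgroup G) : Subgroup G := T ⊓ centralizer (JG S t : Set G)

section pre

variable (hD : UDat D) (C : Conf L A t) (hZ : Odd (Nat.card (center ↥A))) (s : Sit S t T)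
include hD C hZ s

theorem mem_CJ_of_PX {v : ↥A} (hv : PX S v 0) : (v : G) ∈ CJ S t T := by
  refine mem_inf.2 ⟨(s.TU v).2 hv.mem, ?_⟩
  rw [mem_centralizer_iff]
  have hvW : ∀ w ∈ WG S, w * (v : G) = v * w := by
    rintro _ ⟨w, hw, rfl⟩
    exact congrArg Subtype.val (IsW'.comm hw (mem_VI_iff.2 hv))
  intro j hj
  rcases (JG_iff hD C hZ s).1 hj with h3 | h3
  · exact hvW j h3
  · have h4 := hvW _ h3
    have h5 := tA hD C hZ s v.2
    have h6 : t * (j * v) = t * (v * j) := by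
      calc t * (j * v) = t * j * v := by group
        _ = v * (t * j) := h4
        _ = ((v : G) * t) * j := by group
        _ = t * (v * j) := by rw [← h5]; group
    exact mul_left_cancel h6

theorem t_mem_CJ : t ∈ CJ S t T := by
  refine mem_inf.2 ⟨s.isT.mem, ?_⟩
  rw [mem_centralizer_iff]
  intro j hj
  rcases (JG_iff hD C hZ s).1 hj with h3 | h3
  · exact (tA hD C hZ s (WG_le h3)).symm
  · have h4 := tA hD C hZ s (WG_le h3)
    have h5 : t * (j * t) = t * (t * j) := by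
      calc t * (j * t) = t * j * t := by group
        _ = t * (t * j) := h4.symm
    exact mul_left_cancel h5

theorem normalizer_T_le_CJ (hq : 2 < Nat.card (Fx D)) :
    normalizer (T : Set G) ≤ normalizer (CJ S t T : Set G) := by
  have hd := data hD C hZ s hq
  intro g hg
  have hgJ := hd.normalizer_T_le hg
  apply mem_normalizer_of_conj_le
  intro y hy
  exact ⟨conj_mem_of_mem_normalizer hg hy.1,
    conj_mem_of_mem_normalizer (normalizer_le_normalizer_centralizer _ hgJ) hy.2⟩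

/-- The situation after `|R| = 2`. -/
theorem exists_hyp (hq : 2 < Nat.card (Fx D)) (hS : Sch ↥A) (hO : StepFour.Outer A t T) : Hyp A t T where
  std := C.std
  ht := C.ht
  htA := C.htA
  hZ := hZ
  isT := s.isT
  R _ hr hrK := R_eq hD C hZ s hq hS hO hr hrK

variable (h : Hyp A t T) (hq : 2 < Nat.card (Fx D))
include h hq

/-- The subgroup `O` centralises `C_T(J)`. -/
theorem core_comm : ∀ o ∈ core A t, ∀ y ∈ CJ S t T, o * y = y * o := by
  intro o ho y hy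
  have hd := data hD C hZ s hq
  obtain ⟨v, -, r, hrT, hrK, rfl⟩ := of_cent hD C hZ s (by omega) hy.1 (fun w hw =>
    comm_of_centralizer hy.2 (hd.W_J hw))
  obtain ⟨ho1, ho2, -⟩ := h.mem_core.1 ho
  have h1 := comm_of_centralizer ho1 v.2
  rcases h.R r hrT hrK with rfl | rfl
  · rw [mul_one, h1]
  · rw [← mul_assoc, h1, mul_assoc, ho2, mul_assoc]

variable [Finite D.T] (hyp : UEnvW.Hyp (imS h S) B h.tX) {lam : B.K} (h0 : lam ≠ 0) (h1 : lam ≠ 1)
include hyp h0 h1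

theorem Q_le : (wenv (imS h S) hyp h0 h1).Q ≤ im A t (CJ S t T) := by
  rintro _ ⟨v, hv, rfl⟩
  obtain ⟨p, b, q, rfl⟩ := mem_VI_iff.1 hv
  have h2 : ((nf S.m 0 p b q : ↥A) : G) ∈ CJ S t T := mem_CJ_of_PX hD C hZ s ⟨p, b, q, rfl⟩
  exact mem_im.2 ⟨⟨((nf S.m 0 p b q : ↥A) : G), h.A_le (nf S.m 0 p b q).2⟩, h2, rfl⟩

theorem normalizer_T_le_NO : normalizer (T : Set G) ≤ NO A t :=
  (normalizer_T_le_CJ hD C hZ s hq).trans
    (MoverG.normalizer_le h (E := wenv (imS h S) hyp h0 h1) rfl (t_mem_CJ hD C hZ s)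
      (core_comm hD C hZ s h hq) (Q_le hD C hZ s h hq hyp h0 h1))

/-- **The mover in `X`.** -/
theorem exists_moverX (hS : Sch ↥A) (hO : StepFour.Outer A t T) :
    ∃ (n : ↥(NO A t)) (c : B.K), (n : G) ∈ normalizer (T : Set G) ∧ c ≠ 0 ∧
      pr A t n * h.tX * (pr A t n)⁻¹ = (wenv (imS h S) hyp h0 h1).xz c * h.tX ∧
      pr A t n * (wenv (imS h S) hyp h0 h1).xz c * (pr A t n)⁻¹ = (wenv (imS h S) hyp h0 h1).xz c := by
  have hd := data hD C hZ s hq
  obtain ⟨g, hg, ⟨k, hk⟩, r, hr, hr1, hgt⟩ := exists_mover hD C hZ s hq hS hO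
  have hgt' : g * t ≠ t * g := by
    intro hh
    apply hr1
    have h2 : t = t * (S.m.z₁ r : ↥A) := by
      rw [← hgt, hh]; group
    have h3 : ((S.m.z₁ r : ↥A) : G) = 1 := by
      have h4 : t * 1 = t * (S.m.z₁ r : ↥A) := by rw [mul_one]; exact h2
      exact (mul_left_cancel h4).symm
    have h5 : S.m.z₁ r = 1 := Subtype.ext h3
    rw [z₁_eq_nf S.rel, ← nf_one S.rel] at h5
    exact (S.nf_inj h5).2.1
  refine MoverG.exists_mover h hd (E := wenv (imS h S) hyp h0 h1) rfl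
    (normalizer_T_le_NO hD C hZ s h hq hyp h0 h1) ?_ ?_ hg hk hgt'
  · rintro w ⟨v, hv, rfl⟩ hn
    obtain ⟨r, b, s', hr, hs, e⟩ := hv
    obtain ⟨k, rfl⟩ := exists_tk hyp.hB hr
    obtain ⟨l, rfl⟩ := exists_tk hyp.hB hs
    refine ⟨(k, b, l), ?_⟩
    have e1 : (⟨A.subtype v, hn⟩ : ↥(NO A t)) =
        ⟨((S.m.z₁ (tk hyp.hB k) : ↥A) : G), h.A_le (S.m.z₁ _).2⟩ *
        ⟨((S.m.y b : ↥A) : G), h.A_le (S.m.y b).2⟩ *
        ⟨((S.m.z₂ (tk hyp.hB l) : ↥A) : G), h.A_le (S.m.z₂ _).2⟩ := by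
      apply Subtype.ext
      show (v : G) = _
      rw [e]
      rfl
    rw [e1, map_mul, map_mul]
    rfl
  · intro a
    have h2 : ((S.m.x a : ↥A) : G) ∈ T := (s.TU _).2 (x_mem a)
    exact mem_im.2 ⟨⟨((S.m.x a : ↥A) : G), h.A_le (S.m.x a).2⟩, h2, rfl⟩

end pre

end Cfsg.Agent.StdRank2.UStart
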