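import Cfsg.Agent.StdRank2.UStart.Mod

/-!
# Orders: `W`, elementary subgroups of `U` not inside `W`, centralisers in `W` of semilinear maps
-/

set_option autoImplicit false
set_option linter.unusedSectionVars false

namespace Cfsg.Agent.StdRank2.UStart

open Subgroup
open Cfsg.Agent.TitsThree.B2Pkg Cfsg.Agent.TitsThree.RankTwoIdentB2
  Cfsg.Agent.TitsThree.CoreB2 Cfsg.Agent.TitsThree.RankTwoIdx Cfsg.Agent.TitsThree.RankTwoRGD
open Cfsg.Agent.StdRank2.OddLift Cfsg.Agent.StdRank2.B2Lift Cfsg.Agent.StdRank2.B2Std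
  Cfsg.Agent.StdRank2.B2Torus Cfsg.Agent.StdRank2.B2Act Cfsg.Agent.StdRank2.B2Act.Std
  Cfsg.Agent.StdRank2.B2Par Cfsg.Agent.StdRank2.B2Par.Std Cfsg.Agent.StdRank2.B2Self
  Cfsg.Agent.StdRank2.B2Amb
open scoped commutatorElement

universe u

theorem card_le_of_param {A X : Type*} [Group A] [Finite X] (K : Set A) (e : X → A)
    (h : ∀ v ∈ K, ∃ x, e x = v) : Nat.card K ≤ Nat.card X := by
  have h1 : ∀ v : K, ∃ x, e x = v := fun v => h v v.2
  choose g hg using h1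
  apply Nat.card_le_card_of_injective g
  intro v w hvw
  apply Subtype.ext
  rw [← hg v, ← hg w, hvw]

/-- Counting by a coordinate: `K ⊆ rep(X) · Y`. -/
theorem card_le_of_coord {A X Y : Type*} [Group A] [Finite X] [Finite Y] (K : Subgroup A) (P : A → X → Prop)
    (e : Y → A) (h1 : ∀ v ∈ K, ∃ x, P v x)
    (h2 : ∀ v ∈ K, ∀ w ∈ K, ∀ x, P v x → P w x → ∃ y, e y = w⁻¹ * v) :
    Nat.card K ≤ Nat.card X * Nat.card Y := by
  classical
  let rep : X → A := fun x => if h : ∃ w ∈ K, P w x then h.choose else 1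
  have hrep : ∀ x, (∃ w ∈ K, P w x) → rep x ∈ K ∧ P (rep x) x := by
    intro x hx
    have : rep x = hx.choose := dif_pos hx
    rw [this]
    exact hx.choose_spec
  rw [← Nat.card_prod]
  apply card_le_of_param (K : Set A) (fun z : X × Y => rep z.1 * e z.2)
  intro v hv
  obtain ⟨x, hx⟩ := h1 v hv
  obtain ⟨h3, h4⟩ := hrep x ⟨v, hv, hx⟩
  obtain ⟨y, hy⟩ := h2 v hv _ h3 x hx h4
  exact ⟨(x, y), by show rep x * e y = v; rw [hy]; group⟩

section field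

variable {F : Type*} [Field F] [Finite F]

/-- `|Fix ρ|² ≤ |F|` for `ρ ≠ 1`. -/
theorem card_fix_le {ρ : F ≃+* F} (hρ : ρ ≠ 1) :
    Nat.card {x : F // ρ x = x} * Nat.card {x : F // ρ x = x} ≤ Nat.card F := by
  obtain ⟨z, hz⟩ : ∃ z, ρ z ≠ z := by
    by_contra hcon
    push Not at hcon
    exact hρ (RingEquiv.ext hcon)
  rw [← Nat.card_prod]
  apply Nat.card_le_card_of_injective (fun p : {x : F // ρ x = x} × {x : F // ρ x = x} => (p.1 : F) + p.2 * z)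
  rintro ⟨⟨a, ha⟩, ⟨b, hb⟩⟩ ⟨⟨c, hc⟩, ⟨d, hd⟩⟩ h
  have h1 : a + b * z = c + d * z := h
  have hbd : b = d := by
    by_contra hcon
    have h2 : b - d ≠ 0 := sub_ne_zero.2 hcon
    have h3 : z = (c - a) * (b - d)⁻¹ := by
      field_simp
      linear_combination h1
    apply hz
    rw [h3, map_mul, map_inv₀, map_sub, map_sub, ha, hb, hc, hd]
  subst hbd
  have hac : a = c := by linear_combination h1
  subst hac
  rfl

/-- The solutions of `l ρ(b) = b`. -/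
theorem card_eig_le {ρ : F ≃+* F} (l : F) :
    ∃ b₀ : F, ∀ b, l * ρ b = b → ∃ f, ρ f = f ∧ b = b₀ * f := by
  by_cases h : ∃ b₀, b₀ ≠ 0 ∧ l * ρ b₀ = b₀
  · obtain ⟨b₀, h0, h1⟩ := h
    refine ⟨b₀, fun b hb => ⟨b₀⁻¹ * b, ?_, by rw [mul_inv_cancel_left₀ h0]⟩⟩
    have hl : l ≠ 0 := by
      rintro rfl
      rw [zero_mul] at h1
      exact h0 h1.symm
    have h2 : ρ b₀ = l⁻¹ * b₀ := by rw [eq_inv_mul_iff_mul_eq₀ hl]; exact h1
    have h3 : ρ b = l⁻¹ * b := by rw [eq_inv_mul_iff_mul_eq₀ hl]; exact hb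
    rw [map_mul, map_inv₀, h2, h3]
    field_simp
  · push Not at h
    refine ⟨0, fun b hb => ⟨0, map_zero _, ?_⟩⟩
    rw [mul_zero]
    by_contra hcon
    exact h b hcon hb

end field

variable {F : Type*} [Field F] {V : Type*} [AddCommGroup V] [Module F V] {D : PQDatum F V}
variable {A : Type u} [Group A] {S : B2Std.Std D A} [Finite F] [CharP F 2] (hD : UDat D)

/-- The fixed field of `σ`. -/
abbrev Fx (D : PQDatum F V) : Type _ := {x : F // D.σ x = x}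

instance : Finite (Fx D) := Subtype.finite

include hD

theorem σ_ne_one : D.σ ≠ 1 := by
  intro h
  obtain ⟨c, hc⟩ := hD.ne
  apply hc
  rw [h]; rfl

theorem card_Fx : Nat.card (Fx D) * Nat.card (Fx D) = Nat.card F :=
  OutField.card_fix (σ := D.σ) (RingEquiv.ext D.σσ) (σ_ne_one hD)

theorem card_W : Nat.card (WS S) = Nat.card (Fx D) ^ 4 := by
  have h1 : Nat.card (WS S) = Nat.card (Fx D × F × Fx D) := by
    symm
    apply Nat.card_congr
    refine Equiv.ofBijective (fun z => (⟨nf S.m 0 (hD.c0 z.1.2) z.2.1 (hD.c0 z.2.2.2), nf_mem_W rfl rfl _⟩ : WS S)) ?_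
    constructor
    · rintro ⟨⟨a, ha⟩, b, ⟨c, hc⟩⟩ ⟨⟨a', ha'⟩, b', ⟨c', hc'⟩⟩ h
      obtain ⟨-, h2, h3, h4⟩ := S.nf_inj (congrArg Subtype.val h)
      have h5 : a = a' := congrArg PQDatum.T.c h2
      have h6 : c = c' := congrArg PQDatum.T.c h4
      have h7 : b = b' := h3
      subst h5 h6 h7
      rfl
    · rintro ⟨v, hv⟩
      obtain ⟨r, b, s, hr, hs, rfl⟩ := isW_iff.1 hv
      refine ⟨(⟨r.c, hD.σ_c hr⟩, b, ⟨s.c, hD.σ_c hs⟩), Subtype.ext ?_⟩
      show nf S.m 0 (hD.c0 _) b (hD.c0 _) = _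
      have e1 : hD.c0 (hD.σ_c hr) = r := T_ext hr.symm rfl
      have e2 : hD.c0 (hD.σ_c hs) = s := T_ext hs.symm rfl
      rw [e1, e2]
  rw [h1, Nat.card_prod, Nat.card_prod, ← card_Fx hD]
  ring

/-- Elements of `V_I` of order two in a commutative subgroup with an element of first coordinate `a ≠ 0`. -/
theorem of_comm_PX {a : F} (ha : a ≠ 0) {u v : A} (hu : PX S u a) (hv : IsW' S v) (hc : u * v = v * u) :
    ∃ r b, r.w = 0 ∧ D.tr a b = 1 ∧ v = nf S.m 0 r b 1 := by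
  obtain ⟨w, hw, rfl⟩ := PX.decomp hu
  apply of_comm hD ha hv
  have h1 := hv.comm hw
  have h2 : S.m.x a * v * w = v * S.m.x a * w := by
    calc S.m.x a * v * w = S.m.x a * (v * w) := by group
      _ = S.m.x a * (w * v) := by rw [h1]
      _ = S.m.x a * w * v := by group
      _ = v * (S.m.x a * w) := hc
      _ = _ := by group
  exact mul_right_cancel h2

/-- **(Count A)** An elementary subgroup of `U` not inside `W` has order at most `q³`. -/
theorem card_le_of_not_le {P : Subgroup A} (hPU : P ≤ S.U) (hP2 : ∀ x ∈ P, x * x = 1)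
    (hPc : ∀ x ∈ P, ∀ y ∈ P, x * y = y * x) (hPW : ¬ P ≤ WS S) :
    Nat.card P ≤ Nat.card (Fx D) ^ 3 := by
  obtain ⟨u₀, hu₀, hu₀W⟩ := Set.not_subset.1 hPW
  obtain ⟨a₀, ha₀⟩ := exists_PX (hPU hu₀)
  have ha₀0 : a₀ ≠ 0 := by
    rintro rfl
    exact hu₀W (mem_W_of_sq hD ha₀ (hP2 _ hu₀))
  by_cases hcase : ∀ u ∈ P, ∀ a, PX S u a → D.σ (a * a₀⁻¹) = a * a₀⁻¹
  · -- the first coordinates lie in `a₀ F₀`
    have h := card_le_of_coord (X := Fx D) (Y := Fx D × Fx D) P (fun v x => PX S v (x * a₀))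
      (fun y => nf S.m 0 (hD.c0 y.1.2) (y.2 * a₀) 1) ?_ ?_
    · rw [Nat.card_prod] at h
      calc Nat.card P ≤ _ := h
        _ = _ := by ring
    · intro v hv
      obtain ⟨a, ha⟩ := exists_PX (hPU hv)
      refine ⟨⟨a * a₀⁻¹, hcase v hv a ha⟩, ?_⟩
      show PX S v (a * a₀⁻¹ * a₀)
      rwa [inv_mul_cancel_right₀ ha₀0]
    · intro v hv w hw x hvx hwx
      have h1 : PX S (w⁻¹ * v) 0 := by
        have := hwx.inv.mul hvx
        rwa [neg_add_cancel] at this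
      have h2 : w⁻¹ * v ∈ P := mul_mem (inv_mem hw) hv
      have h3 := mem_W_of_sq hD h1 (hP2 _ h2)
      obtain ⟨r, b, hr, hb, h4⟩ := of_comm_PX hD ha₀0 ha₀ h3 (hPc _ hu₀ _ h2)
      refine ⟨(⟨r.c, hD.σ_c hr⟩, ⟨b * a₀⁻¹, hD.tr_eq_one ha₀0 hb⟩), ?_⟩
      rw [h4]
      show nf S.m 0 (hD.c0 _) (b * a₀⁻¹ * a₀) 1 = _
      rw [inv_mul_cancel_right₀ ha₀0]
      congr 1
      exact T_ext hr.symm rfl
  · push Not at hcase
    obtain ⟨u₁, hu₁, a₁, ha₁, hne⟩ := hcase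
    have ha₁0 : a₁ ≠ 0 := by
      rintro rfl
      rw [zero_mul, map_zero] at hne
      exact hne rfl
    have h := card_le_of_coord (X := F) (Y := Fx D) P (fun v x => PX S v x)
      (fun y => nf S.m 0 (hD.c0 y.2) 0 1) ?_ ?_
    · rw [← card_Fx hD] at h
      calc Nat.card P ≤ _ := h
        _ = _ := by ring
    · intro v hv
      exact exists_PX (hPU hv)
    · intro v hv w hw x hvx hwx
      have h1 : PX S (w⁻¹ * v) 0 := by
        have := hwx.inv.mul hvx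
        rwa [neg_add_cancel] at this
      have h2 : w⁻¹ * v ∈ P := mul_mem (inv_mem hw) hv
      have h3 := mem_W_of_sq hD h1 (hP2 _ h2)
      obtain ⟨r, b, hr, hb, h4⟩ := of_comm_PX hD ha₀0 ha₀ h3 (hPc _ hu₀ _ h2)
      obtain ⟨r', b', hr', hb', h4'⟩ := of_comm_PX hD ha₁0 ha₁ h3 (hPc _ hu₁ _ h2)
      rw [h4] at h4'
      obtain ⟨-, h5, h6, -⟩ := S.nf_inj h4'
      subst h6
      have hb0 : b = 0 := by
        by_contra hb0
        apply hne
        have h7 := hD.tr_eq_one ha₀0 hb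
        have h8 := hD.tr_eq_one ha₁0 hb'
        have h9 : a₁ * a₀⁻¹ = b * a₀⁻¹ * (b * a₁⁻¹)⁻¹ := by
          field_simp
        rw [h9, map_mul, map_inv₀, h7, h8]
      subst hb0
      refine ⟨⟨r.c, hD.σ_c hr⟩, ?_⟩
      rw [h4]
      show nf S.m 0 (hD.c0 _) 0 1 = _
      congr 1
      exact T_ext hr.symm rfl

/-- **(Count B)** The centraliser in `W` of a map acting on `z₁(0,·) y(F)/z₁(0,·)` as `b ↦ l ρ(b)`, `ρ ≠ 1`. -/
theorem card_le_of_semi {f : A →* A} {l : F} {ρ : F ≃+* F} (hρ : ρ ≠ 1)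
    (h1 : ∀ r : D.T, r.w = 0 → ∃ r' : D.T, r'.w = 0 ∧ f (S.m.z₁ r) = S.m.z₁ r')
    (h2 : ∀ b, ∃ r : D.T, r.w = 0 ∧ f (S.m.y b) = S.m.z₁ r * S.m.y (l * ρ b))
    {C : Subgroup A} (hC : C ≤ WS S) (hf : ∀ v ∈ C, f v = v) :
    Nat.card C ≤ Nat.card (Fx D) ^ 3 := by
  obtain ⟨b₀, hb₀⟩ := card_eig_le (ρ := ρ) l
  have hfix : Nat.card {x : F // ρ x = x} ≤ Nat.card (Fx D) := by
    have h3 := card_fix_le hρ
    rw [← card_Fx hD] at h3
    by_contra hcon
    push Not at hcon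
    have := Nat.mul_lt_mul_of_lt_of_lt hcon hcon
    omega
  have h := card_le_of_coord (X := Fx D) (Y := Fx D × {x : F // ρ x = x}) C
    (fun v x => PZ S v (hD.c0 x.2)) (fun y => nf S.m 0 (hD.c0 y.1.2) (b₀ * y.2) 1) ?_ ?_
  · calc Nat.card C ≤ _ := h
      _ = Nat.card (Fx D) * Nat.card (Fx D) * Nat.card {x : F // ρ x = x} := by rw [Nat.card_prod]; ring
      _ ≤ Nat.card (Fx D) * Nat.card (Fx D) * Nat.card (Fx D) := Nat.mul_le_mul_left _ hfix
      _ = _ := by ring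
  · intro v hv
    obtain ⟨r, b, s, hr, hs, rfl⟩ := isW_iff.1 (hC hv)
    refine ⟨⟨s.c, hD.σ_c hs⟩, 0, r, b, ?_⟩
    congr 1
    exact T_ext hs rfl
  · intro v hv w hw x hvx hwx
    have h3 : PZ S (w⁻¹ * v) 1 := by
      have := hwx.inv.mul hvx
      rwa [inv_mul_cancel] at this
    have h4 : w⁻¹ * v ∈ C := mul_mem (inv_mem hw) hv
    obtain ⟨r, b, s, hr, hs, h5⟩ := isW_iff.1 (hC h4)
    obtain ⟨a', p', b', h6⟩ := h3
    rw [h5] at h6
    obtain ⟨-, -, -, h7⟩ := S.nf_inj h6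
    subst h7
    have h8 := hf _ h4
    rw [h5] at h8
    have e1 : nf S.m 0 r b 1 = S.m.z₁ r * S.m.y b := by
      unfold B2Std.nf
      rw [add_zero' S.rel.x_add, mul_one' S.rel.z₂_mul, one_mul, mul_one]
    obtain ⟨r', hr', h9⟩ := h1 r hr
    obtain ⟨r'', hr'', h10⟩ := h2 b
    rw [e1, map_mul, h9, h10, ← mul_assoc, ← S.rel.z₁_mul] at h8
    have e2 : ∀ (p : D.T) (c : F), S.m.z₁ p * S.m.y c = nf S.m 0 p c 1 := by
      intro p c
      unfold B2Std.nf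
      rw [add_zero' S.rel.x_add, mul_one' S.rel.z₂_mul, one_mul, mul_one]
    rw [e2, e2] at h8
    obtain ⟨-, -, h11, -⟩ := S.nf_inj h8
    obtain ⟨φ, hφ, hb⟩ := hb₀ b h11
    refine ⟨(⟨r.c, hD.σ_c hr⟩, ⟨φ, hφ⟩), ?_⟩
    rw [h5]
    show nf S.m 0 (hD.c0 _) (b₀ * φ) 1 = _
    rw [← hb]
    congr 1
    exact T_ext hr.symm rfl

end Cfsg.Agent.StdRank2.UStart
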