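import Cfsg.Agent.StdRank2.UStart.Count
import Cfsg.Agent.StdEven.StepFour

/-!
# `J = ⟨t⟩ W` is weakly closed in `T`; the data of `StepFour`

`Sit S t T`: `T` is a Sylow 2-subgroup of `N(A)` as in `Loc.IsT` with `T ⊓ A = U`, acting semilinearly on
`z₁(0,·) y(F)/z₁(0,·)`, the linear elements being inner.
-/

set_option autoImplicit false
set_option linter.unusedSectionVars false

namespace Cfsg.Agent.StdRank2.UStart

open Subgroup
open Cfsg.Agent.TitsThree.B2Pkg Cfsg.Agent.TitsThree.RankTwoIdentB2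
  Cfsg.Agent.TitsThree.CoreB2 Cfsg.Agent.TitsThree.RankTwoIdx Cfsg.Agent.TitsThree.RankTwoRGD
open Cfsg.Agent.StdRank2.OddLift Cfsg.Agent.StdRank2.B2Lift Cfsg.Agent.StdRank2.B2Std
  Cfsg.Agent.StdRank2.B2Torus Cfsg.Agent.StdRank2.B2Act Cfsg.Agent.StdRank2.B2Act.Std
  Cfsg.Agent.StdRank2.B2Par Cfsg.Agent.StdRank2.B2Par.Std Cfsg.Agent.StdRank2.B2Self
  Cfsg.Agent.StdRank2.B2Amb
open Cfsg Cfsg.Agent.SignalizersComponents Cfsg.Agent.StdEven.Syl Cfsg.Agent.StdEven.Loc
open Cfsg.Agent.StdEven.Perf Cfsg.Agent.StdEven.Avg Cfsg.Agent.StdL2.Setup Cfsg.Agent.Schreier.Basic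
open Cfsg.Agent.StdEven
open scoped commutatorElement

universe u

variable {F : Type*} [Field F] [Finite F] [CharP F 2] {V : Type*} [AddCommGroup V] [Module F V]
  {D : PQDatum F V}
variable {G : Type u} [Group G] {A L : Subgroup G} {S : B2Std.Std D ↥A} {t : G} {T : Subgroup G}

/-- The semilinear action of `f` on `z₁(0,·) y(F)/z₁(0,·)`. -/
structure Sem (S : B2Std.Std D ↥A) (f : G) (l : F) (ρ : F ≃+* F) : Prop where
  z : ∀ r : D.T, r.w = 0 → ∃ r' : D.T, r'.w = 0 ∧ f * (S.m.z₁ r : G) * f⁻¹ = S.m.z₁ r'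
  y : ∀ b, ∃ r : D.T, r.w = 0 ∧ f * (S.m.y b : G) * f⁻¹ = (S.m.z₁ r : G) * S.m.y (l * ρ b)

/-- `T` is a Sylow 2-subgroup of `N(A)` over `U`. -/
structure Sit (S : B2Std.Std D ↥A) (t : G) (T : Subgroup G) : Prop where
  isT : IsT A t T
  TU : ∀ x : ↥A, (x : G) ∈ T ↔ x ∈ S.U
  sem : ∀ f ∈ T, ∃ l ρ, l ≠ 0 ∧ Sem S f l ρ ∧ (ρ = 1 → ∃ a ∈ A, a⁻¹ * f ∈ centralizer (A : Set G))

/-- `W` as a subgroup of `G`. -/
def WG (S : B2Std.Std D ↥A) : Subgroup G := (WS S).map A.subtype

/-- `J = ⟨t⟩ W`. -/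
def JG (S : B2Std.Std D ↥A) (t : G) : Subgroup G := WG S ⊔ zpowers t

theorem mem_WG {x : G} : x ∈ WG S ↔ ∃ v : ↥A, IsW' S v ∧ (v : G) = x := Iff.rfl

theorem coe_mem_WG {v : ↥A} : (v : G) ∈ WG S ↔ IsW' S v := by
  constructor
  · rintro ⟨w, hw, h⟩
    have : w = v := Subtype.ext h
    rwa [← this]
  · intro h
    exact ⟨v, h, rfl⟩

theorem WG_le : WG S ≤ A := by
  rintro _ ⟨v, -, rfl⟩
  exact v.2

theorem card_bool' : Nat.card Bool = 2 := by rw [Nat.card_eq_fintype_card, Fintype.card_bool]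

/-- the action on `A` of an element normalising `A` -/
def cjA {f : G} (hf : f ∈ normalizer (A : Set G)) : ↥A →* ↥A where
  toFun a := ⟨f * a * f⁻¹, conj_mem_of_mem_normalizer hf a.2⟩
  map_one' := Subtype.ext (by simp)
  map_mul' a b := Subtype.ext (by
    show f * (a * b : G) * f⁻¹ = f * a * f⁻¹ * (f * b * f⁻¹)
    group)

theorem mem_JG (htt : t * t = 1) (htA : ∀ a ∈ A, t * a = a * t) {x : G} :
    x ∈ JG S t ↔ x ∈ WG S ∨ t * x ∈ WG S := by
  let K : Subgroup G :=
    { carrier := {x | x ∈ WG S ∨ t * x ∈ WG S}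
      one_mem' := Or.inl (one_mem _)
      mul_mem' := by
        rintro a b (ha | ha) (hb | hb)
        · exact Or.inl (mul_mem ha hb)
        · right
          have h1 := htA a (WG_le ha)
          have h2 : t * (a * b) = a * (t * b) := by rw [← mul_assoc, h1, mul_assoc]
          rw [h2]
          exact mul_mem ha hb
        · right
          rw [← mul_assoc]
          exact mul_mem ha hb
        · left
          have h1 := htA _ (WG_le ha)
          have h2 : t * (t * a) = a := by rw [← mul_assoc, htt, one_mul]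
          have h3 : a * b = t * a * (t * b) := by
            rw [← mul_assoc, ← h1, h2]
          rw [h3]
          exact mul_mem ha hb
      inv_mem' := by
        rintro a (ha | ha)
        · exact Or.inl (inv_mem ha)
        · right
          have h1 := htA _ (WG_le ha)
          have h2 : t * (t * a) = a := by rw [← mul_assoc, htt, one_mul]
          have h3 : t * a⁻¹ = (t * a)⁻¹ := by
            rw [h2] at h1
            have h4 : t⁻¹ = t := inv_eq_of_mul_eq_one_left htt
            have h5 : Commute t a := by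
              show t * a = a * t
              have h6 : t * a = t * (t * a * t) := by rw [← h1]
              rw [h6, ← mul_assoc, ← mul_assoc, htt, one_mul]
            rw [mul_inv_rev, h4]
            exact h5.inv_right.eq
          rw [h3]
          exact inv_mem ha }
  have h1 : JG S t ≤ K := by
    apply sup_le
    · intro x hx
      exact Or.inl hx
    · rw [zpowers_le]
      right
      rw [htt]
      exact one_mem _
  constructor
  · intro hx
    exact h1 hx
  · rintro (h | h)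
    · exact le_sup_left (a := WG S) h
    · have h2 : x = t * (t * x) := by rw [← mul_assoc, htt, one_mul]
      rw [h2]
      exact mul_mem (le_sup_right (a := WG S) (mem_zpowers t)) (le_sup_left (a := WG S) h)

section sem

theorem Sem.one : Sem S (1 : G) 1 1 where
  z r hr := ⟨r, hr, by simp⟩
  y b := ⟨1, rfl, by
    rw [mul_one' S.rel.z₁_mul, one_mul]
    simp⟩

theorem Sem.uniq {f : G} {l l' : F} {ρ ρ' : F ≃+* F} (h : Sem S f l ρ) (h' : Sem S f l' ρ')
    (hl : l ≠ 0) : l = l' ∧ ρ = ρ' := by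
  have key : ∀ b, l * ρ b = l' * ρ' b := by
    intro b
    obtain ⟨r, hr, e⟩ := h.y b
    obtain ⟨r', hr', e'⟩ := h'.y b
    rw [e] at e'
    have e1 : S.m.z₁ r * S.m.y (l * ρ b) = S.m.z₁ r' * S.m.y (l' * ρ' b) := Subtype.ext e'
    have e2 : ∀ (p : D.T) (c : F), S.m.z₁ p * S.m.y c = nf S.m 0 p c 1 := by
      intro p c
      unfold B2Std.nf
      rw [add_zero' S.rel.x_add, mul_one' S.rel.z₂_mul, one_mul, mul_one]
    rw [e2, e2] at e1
    exact (S.nf_inj e1).2.2.1
  have h1 := key 1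
  rw [map_one, map_one, mul_one, mul_one] at h1
  subst h1
  exact ⟨rfl, RingEquiv.ext fun b => mul_left_cancel₀ hl (key b)⟩

theorem Sem.mul {f g : G} {l k : F} {ρ τ : F ≃+* F} (h : Sem S f l ρ) (h' : Sem S g k τ) :
    Sem S (f * g) (l * ρ k) (ρ * τ) where
  z r hr := by
    obtain ⟨r', hr', e'⟩ := h'.z r hr
    obtain ⟨r'', hr'', e''⟩ := h.z r' hr'
    refine ⟨r'', hr'', ?_⟩
    rw [← e'', ← e']
    group
  y b := by
    obtain ⟨r', hr', e'⟩ := h'.y b
    obtain ⟨r'', hr'', e''⟩ := h.y (k * τ b)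
    obtain ⟨r3, hr3, e3⟩ := h.z r' hr'
    refine ⟨r3 * r'', by rw [PQDatum.T.mul_w, hr3, hr'', add_zero], ?_⟩
    have e4 : l * ρ k * (ρ * τ) b = l * ρ (k * τ b) := by
      show l * ρ k * ρ (τ b) = l * ρ (k * τ b)
      rw [map_mul, mul_assoc]
    have e5 : f * g * (S.m.y b : G) * (f * g)⁻¹ = f * (g * (S.m.y b : G) * g⁻¹) * f⁻¹ := by group
    have e6 : ((S.m.z₁ (r3 * r'') : ↥A) : G) * (S.m.y (l * ρ (k * τ b)) : G) =
        (S.m.z₁ r3 : G) * ((S.m.z₁ r'' : G) * (S.m.y (l * ρ (k * τ b)) : G)) := by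
      rw [S.rel.z₁_mul, coe_mul, mul_assoc]
    rw [e4, e5, e', e6, ← e'', ← e3]
    group

end sem

variable [Finite G] (hD : UDat D) (C : Conf L A t) (hZ : Odd (Nat.card (center ↥A)))
  (h : Sit S t T)
include hD C hZ h

/-- Two outer involutions of `T` differ by an inner element. -/
theorem inner_mul {e f : G} (he : e ∈ T) (hf : f ∈ T) (hee : e * e = 1) (hff : f * f = 1)
    (he' : ¬ ∃ a ∈ A, a⁻¹ * e ∈ centralizer (A : Set G)) (hf' : ¬ ∃ a ∈ A, a⁻¹ * f ∈ centralizer (A : Set G)) :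
    ∃ a ∈ A, a⁻¹ * (e * f) ∈ centralizer (A : Set G) := by
  obtain ⟨l, ρ, hl, h1, h2⟩ := h.sem e he
  obtain ⟨k, τ, hk, h3, h4⟩ := h.sem f hf
  have h5 : ρ * ρ = 1 := by
    have h6 := h1.mul h1
    rw [hee] at h6
    exact (Sem.one.uniq h6 one_ne_zero).2.symm
  have h6 : τ * τ = 1 := by
    have h6 := h3.mul h3
    rw [hff] at h6
    exact (Sem.one.uniq h6 one_ne_zero).2.symm
  have h7 : ρ ≠ 1 := fun hh => he' (h2 hh)
  have h8 : τ ≠ 1 := fun hh => hf' (h4 hh)
  have h9 : ρ = τ := OutField.unique_invol h5 h6 h7 h8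
  have h10 := h1.mul h3
  rw [h9, h6] at h10
  obtain ⟨k', τ', hk', h11, h12⟩ := h.sem (e * f) (mul_mem he hf)
  exact h12 (h11.uniq h10 hk').2

theorem t_not_mem : t ∉ A := fun hA =>
  t_ne C.ht (h.isT.eq_one_of_mem hZ h.isT.mem hA C.htA)

theorem tA {a : G} (ha : a ∈ A) : t * a = a * t := comm_of_centralizer C.htA ha

theorem JG_iff {x : G} : x ∈ JG S t ↔ x ∈ WG S ∨ t * x ∈ WG S :=
  mem_JG (tt C.ht) (fun _ ha => tA hD C hZ h ha)

theorem card_WG : Nat.card (WG S) = Nat.card (Fx D) ^ 4 := by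
  rw [← card_W (S := S) hD, WG]
  exact (Nat.card_congr ((WS S).equivMapOfInjective A.subtype A.subtype_injective).toEquiv).symm

theorem card_JG : 2 * Nat.card (Fx D) ^ 4 ≤ Nat.card (JG S t) := by
  rw [← card_WG hD C hZ h]
  have h1 : 2 * Nat.card (WG S) = Nat.card (Bool × WG S) := by
    rw [Nat.card_prod, card_bool']
  rw [h1]
  apply Nat.card_le_card_of_injective (fun z : Bool × WG S =>
    (⟨(if z.1 then t else 1) * z.2, by
      rcases z with ⟨b, w⟩
      cases b
      · exact (JG_iff hD C hZ h).2 (Or.inl (by simp))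
      · exact (JG_iff hD C hZ h).2 (Or.inr (by
          show t * (t * (w : G)) ∈ WG S
          rw [← mul_assoc, tt C.ht, one_mul]; exact w.2))⟩ : JG S t))
  rintro ⟨b, w⟩ ⟨b', w'⟩ hbw
  have h2 : (if b then t else 1) * (w : G) = (if b' then t else 1) * (w' : G) := congrArg Subtype.val hbw
  have h3 : b = b' := by
    rcases Bool.eq_false_or_eq_true b with hb | hb <;> rcases Bool.eq_false_or_eq_true b' with hb' | hb'
    · rw [hb, hb']
    · exfalso
      rw [hb, hb'] at h2
      have h4 : t * (w : G) = 1 * (w' : G) := h2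
      apply t_not_mem hD C hZ h
      have h5 : t = w' * (w : G)⁻¹ := by rw [eq_mul_inv_iff_mul_eq, h4, one_mul]
      rw [h5]
      exact mul_mem (WG_le w'.2) (inv_mem (WG_le w.2))
    · exfalso
      rw [hb, hb'] at h2
      have h4 : 1 * (w : G) = t * (w' : G) := h2
      apply t_not_mem hD C hZ h
      have h5 : t = w * (w' : G)⁻¹ := by rw [eq_mul_inv_iff_mul_eq, ← h4, one_mul]
      rw [h5]
      exact mul_mem (WG_le w.2) (inv_mem (WG_le w'.2))
    · rw [hb, hb']
  subst h3
  have h4 := mul_left_cancel h2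
  exact Prod.ext rfl (Subtype.ext h4)

omit [Finite F] [CharP F 2] hD C hZ h in
theorem card_le_two {K H : Subgroup G} (y : G) (hK : ∀ x ∈ K, x ∈ H ∨ y * x ∈ H) :
    Nat.card K ≤ 2 * Nat.card H := by
  classical
  have h1 : 2 * Nat.card H = Nat.card (Bool × H) := by
    rw [Nat.card_prod, card_bool']
  rw [h1]
  apply card_le_of_param (K : Set G) (fun z : Bool × H => (if z.1 then y⁻¹ else 1) * z.2)
  intro v hv
  rcases hK v hv with h2 | h2
  · exact ⟨(false, ⟨v, h2⟩), by simp⟩
  · exact ⟨(true, ⟨y * v, h2⟩), by simp⟩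

/-- **`J` is weakly closed in `T`.** -/
theorem weak (hq : 2 < Nat.card (Fx D)) {g : G} (hg : ∀ j ∈ JG S t, g * j * g⁻¹ ∈ T) :
    ∀ j ∈ JG S t, g * j * g⁻¹ ∈ JG S t := by
  set q := Nat.card (Fx D) with hqdef
  -- elements of `J`
  have hJ2 : ∀ j ∈ JG S t, j * j = 1 := by
    intro j hj
    rcases (JG_iff hD C hZ h).1 hj with ⟨v, hv, rfl⟩ | ⟨v, hv, hvj⟩
    · exact congrArg Subtype.val (W_sq hD hv)
    · have h1 : j = t * v := by
        have : t * (A.subtype v) = t * (t * j) := by rw [hvj]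
        rw [← mul_assoc, tt C.ht, one_mul] at this
        exact this.symm
      have h2 : (v : G) * v = 1 := congrArg Subtype.val (W_sq hD hv)
      rw [h1]
      calc t * (v : G) * (t * v) = t * ((v : G) * t) * v := by group
        _ = t * (t * v) * v := by rw [tA hD C hZ h v.2]
        _ = (t * t) * ((v : G) * v) := by group
        _ = 1 := by rw [tt C.ht, h2, one_mul]
  have hJc : ∀ i ∈ JG S t, ∀ j ∈ JG S t, i * j = j * i := by
    intro i hi j hj
    have h1 := hJ2 _ (mul_mem hi hj)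
    have h2 := hJ2 i hi
    have h3 := hJ2 j hj
    have h4 : i * j = (i * j)⁻¹ := eq_inv_of_mul_eq_one_left h1
    rw [h4, mul_inv_rev, inv_eq_of_mul_eq_one_left h2, inv_eq_of_mul_eq_one_left h3]
  -- the conjugate
  let E : Subgroup G := (JG S t).map (MulAut.conj g).toMonoidHom
  have hET : E ≤ T := by
    rintro _ ⟨j, hj, rfl⟩
    exact hg j hj
  have hE2 : ∀ e ∈ E, e * e = 1 := by
    rintro _ ⟨j, hj, rfl⟩
    show g * j * g⁻¹ * (g * j * g⁻¹) = 1
    calc g * j * g⁻¹ * (g * j * g⁻¹) = g * (j * j) * g⁻¹ := by group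
      _ = 1 := by rw [hJ2 j hj]; group
  have hEc : ∀ e ∈ E, ∀ f ∈ E, e * f = f * e := by
    intro i hi j hj
    have h1 := hE2 _ (mul_mem hi hj)
    have h2 := hE2 i hi
    have h3 := hE2 j hj
    have h4 : i * j = (i * j)⁻¹ := eq_inv_of_mul_eq_one_left h1
    rw [h4, mul_inv_rev, inv_eq_of_mul_eq_one_left h2, inv_eq_of_mul_eq_one_left h3]
  have hEcard : 2 * q ^ 4 ≤ Nat.card E := by
    have h1 : Nat.card E = Nat.card (JG S t) :=
      (Nat.card_congr ((JG S t).equivMapOfInjective (MulAut.conj g).toMonoidHom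
        (MulAut.conj g).injective).toEquiv).symm
    rw [h1]
    exact card_JG hD C hZ h
  -- the inner part
  let I : Subgroup G :=
    { carrier := {e | e ∈ E ∧ ∃ a ∈ A, a⁻¹ * e ∈ centralizer (A : Set G)}
      one_mem' := ⟨one_mem _, 1, one_mem _, by rw [inv_one, one_mul]; exact one_mem _⟩
      mul_mem' := by
        rintro e f ⟨he, a, ha, hae⟩ ⟨hf, b, hb, hbf⟩
        refine ⟨mul_mem he hf, a * b, mul_mem ha hb, ?_⟩
        have h1 : (a⁻¹ * e) * b = b * (a⁻¹ * e) := comm_of_centralizer hae hb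
        have h2 : (a * b)⁻¹ * (e * f) = (a⁻¹ * e) * (b⁻¹ * f) := by
          calc (a * b)⁻¹ * (e * f) = b⁻¹ * ((a⁻¹ * e) * b) * (b⁻¹ * f) := by group
            _ = b⁻¹ * (b * (a⁻¹ * e)) * (b⁻¹ * f) := by rw [h1]
            _ = _ := by group
        rw [h2]
        exact mul_mem hae hbf
      inv_mem' := by
        rintro e ⟨he, a, ha, hae⟩
        refine ⟨inv_mem he, a⁻¹, inv_mem ha, ?_⟩
        have h1 : (a⁻¹ * e) * a = a * (a⁻¹ * e) := comm_of_centralizer hae ha
        have h2 : a⁻¹⁻¹ * e⁻¹ = (a⁻¹ * e)⁻¹ := by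
          have h3 : a⁻¹ * e = e * a⁻¹ := by
            calc a⁻¹ * e = (a⁻¹ * e * a) * a⁻¹ := by group
              _ = a * (a⁻¹ * e) * a⁻¹ := by rw [h1]
              _ = e * a⁻¹ := by group
          rw [h3]; group
        rw [h2]
        exact inv_mem hae }
  have hEI : Nat.card E ≤ 2 * Nat.card I := by
    by_cases hall : ∀ e ∈ E, e ∈ I
    · exact card_le_two 1 fun x hx => Or.inl (hall x hx)
    · push Not at hall
      obtain ⟨e, he, heI⟩ := hall
      apply card_le_two e
      intro x hx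
      by_cases hxI : x ∈ I
      · exact Or.inl hxI
      · right
        refine ⟨mul_mem he hx, ?_⟩
        exact inner_mul hD C hZ h (hET he) (hET hx) (hE2 e he) (hE2 x hx) (fun hh => heI ⟨he, hh⟩)
          (fun hh => hxI ⟨hx, hh⟩)
  -- elements of `I`
  have hI : ∀ e ∈ I, ∃ v : ↥A, v ∈ S.U ∧ v * v = 1 ∧ (e = v ∨ e = t * v) := by
    rintro e ⟨he, a, ha, hae⟩
    obtain ⟨v, hvT, hvA, r, hrT, hrK, hfe⟩ := h.isT.exists_of_inner (hET he) ha hae
    have hrv : r * v = v * r := comm_of_centralizer hrK hvA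
    have h1 : (v * v) * (r * r) = 1 := by
      rw [← hE2 e he, hfe]
      calc v * v * (r * r) = v * (v * r) * r := by group
        _ = v * (r * v) * r := by rw [hrv]
        _ = v * r * (v * r) := by group
    have h2 : v * v = 1 := by
      apply h.isT.eq_one_of_mem hZ (mul_mem hvT hvT) (mul_mem hvA hvA)
      rw [eq_inv_of_mul_eq_one_left h1]
      exact inv_mem (mul_mem hrK hrK)
    rw [h2, one_mul] at h1
    refine ⟨⟨v, hvA⟩, (h.TU _).1 hvT, Subtype.ext h2, ?_⟩
    rcases h.isT.uniq r hrT hrK h1 with h3 | h3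
    · left
      rw [hfe, h3, mul_one]
    · right
      rw [hfe, ← hrv, h3]
  -- the projection
  let P : Subgroup ↥A :=
    { carrier := {v | (v : G) ∈ I ∨ t * (v : G) ∈ I}
      one_mem' := Or.inl (one_mem _)
      mul_mem' := by
        rintro a b (ha | ha) (hb | hb)
        · exact Or.inl (mul_mem ha hb)
        · right
          have h2 : t * ((a * b : ↥A) : G) = a * (t * b) := by
            rw [coe_mul, ← mul_assoc, tA hD C hZ h a.2, mul_assoc]
          rw [h2]
          exact mul_mem ha hb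
        · right
          rw [coe_mul, ← mul_assoc]
          exact mul_mem ha hb
        · left
          have h3 : ((a * b : ↥A) : G) = t * a * (t * b) := by
            rw [coe_mul]
            calc (a : G) * b = (t * t) * (a * b) := by rw [tt C.ht, one_mul]
              _ = t * (t * a) * b := by group
              _ = t * (a * t) * b := by rw [tA hD C hZ h a.2]
              _ = _ := by group
          rw [h3]
          exact mul_mem ha hb
      inv_mem' := by
        rintro a (ha | ha)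
        · exact Or.inl (inv_mem ha)
        · right
          have h3 : t * ((a⁻¹ : ↥A) : G) = (t * a)⁻¹ := by
            rw [mul_inv_rev, inv_eq_of_mul_eq_one_left (tt C.ht), coe_inv]
            exact tA hD C hZ h (inv_mem a.2)
          rw [h3]
          exact inv_mem ha }
  have hPU : P ≤ S.U := by
    intro v hv
    rcases hv with hv | hv
    · exact (h.TU v).1 (hET hv.1)
    · have h1 := hET hv.1
      rw [← h.TU]
      have h2 : (v : G) = t * (t * v) := by rw [← mul_assoc, tt C.ht, one_mul]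
      rw [h2]
      exact mul_mem h.isT.mem h1
  have hP2 : ∀ x ∈ P, x * x = 1 := by
    intro x hx
    rcases hx with hx | hx
    · exact Subtype.ext (hE2 _ hx.1)
    · have h1 := hE2 _ hx.1
      apply Subtype.ext
      show (x : G) * x = 1
      calc (x : G) * x = (t * t) * (x * x) := by rw [tt C.ht, one_mul]
        _ = t * (t * x) * x := by group
        _ = t * (x * t) * x := by rw [tA hD C hZ h x.2]
        _ = t * x * (t * x) := by group
        _ = 1 := h1
  have hPc : ∀ x ∈ P, ∀ y ∈ P, x * y = y * x := by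
    intro i hi j hj
    have h1 := hP2 _ (mul_mem hi hj)
    have h2 := hP2 i hi
    have h3 := hP2 j hj
    have h4 : i * j = (i * j)⁻¹ := eq_inv_of_mul_eq_one_left h1
    rw [h4, mul_inv_rev, inv_eq_of_mul_eq_one_left h2, inv_eq_of_mul_eq_one_left h3]
  have hIP : Nat.card I ≤ 2 * Nat.card P := by
    have h1 : Nat.card (P.map A.subtype) = Nat.card P :=
      (Nat.card_congr (P.equivMapOfInjective A.subtype A.subtype_injective).toEquiv).symm
    rw [← h1]
    apply card_le_two t
    intro e he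
    obtain ⟨v, hv, hvv, hev⟩ := hI e he
    rcases hev with rfl | rfl
    · exact Or.inl ⟨v, Or.inl he, rfl⟩
    · right
      rw [← mul_assoc, tt C.ht, one_mul]
      exact ⟨v, Or.inr he, rfl⟩
  have hPcard : q ^ 3 < Nat.card P := by
    have h1 : 2 * q ^ 4 ≤ 4 * Nat.card P := by omega
    have h2 : q ^ 4 = q ^ 3 * q := by ring
    have h3 : q ^ 3 * 3 ≤ q ^ 3 * q := Nat.mul_le_mul_left _ hq
    have h4 : 0 < q ^ 3 := by positivity
    omega
  have hPW : P ≤ WS S := by
    by_contra hcon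
    exact absurd (card_le_of_not_le hD hPU hP2 hPc hcon) (not_le.2 hPcard)
  -- no outer elements
  have hall : ∀ e ∈ E, e ∈ I := by
    by_contra hcon
    push Not at hcon
    obtain ⟨f, hf, hfI⟩ := hcon
    obtain ⟨l, ρ, hl, h1, h2⟩ := h.sem f (hET hf)
    have h3 : ρ ≠ 1 := fun hh => hfI ⟨hf, h2 hh⟩
    have hfN := h.isT.norm (hET hf)
    apply absurd (card_le_of_semi (f := cjA hfN) (l := l) (C := P) hD h3 ?_ ?_ hPW ?_) (not_le.2 hPcard)
    · intro r hr
      obtain ⟨r', hr', e⟩ := h1.z r hr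
      exact ⟨r', hr', Subtype.ext e⟩
    · intro b
      obtain ⟨r', hr', e⟩ := h1.y b
      exact ⟨r', hr', Subtype.ext e⟩
    · intro v hv
      apply Subtype.ext
      show f * v * f⁻¹ = v
      rw [mul_inv_eq_iff_eq_mul]
      rcases hv with hv | hv
      · exact hEc _ hf _ hv.1
      · have h4 := hEc _ hf _ hv.1
        have h5 := h.isT.cent f (hET hf)
        have h6 : t * (f * v) = t * (v * f) := by
          calc t * (f * v) = (t * f) * v := by group
            _ = f * (t * v) := by rw [← h5]; group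
            _ = t * v * f := h4
            _ = t * (v * f) := by group
        exact mul_left_cancel h6
  intro j hj
  obtain ⟨v, hv, hvv, hev⟩ := hI _ (hall (g * j * g⁻¹) ⟨j, hj, rfl⟩)
  have hvI : (v : G) ∈ I ∨ t * (v : G) ∈ I := by
    rcases hev with hev | hev
    · left; rw [← hev]; exact hall _ ⟨j, hj, rfl⟩
    · right; rw [← hev]; exact hall _ ⟨j, hj, rfl⟩
  have hvW : (v : G) ∈ WG S := coe_mem_WG.2 (hPW hvI)
  rw [JG_iff hD C hZ h]
  rcases hev with hev | hev
  · left; rw [hev]; exact hvW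
  · right; rw [hev, ← mul_assoc, tt C.ht, one_mul]; exact hvW

/-- **The data of `StepFour`.** -/
theorem data (hq : 2 < Nat.card (Fx D)) : StepFour.Data A t T (JG S t) (WG S) := by
  have htJ : t ∈ JG S t := (JG_iff hD C hZ h).2 (Or.inr (by rw [tt C.ht]; exact one_mem _))
  have hWJ : WG S ≤ JG S t := fun x hx => (JG_iff hD C hZ h).2 (Or.inl hx)
  have htW : t ∉ WG S := fun hh => t_not_mem hD C hZ h (WG_le hh)
  have hWT : WG S ≤ T := by
    rintro _ ⟨v, hv, rfl⟩
    exact (h.TU v).2 (S.VI_le (IsW'.mem_VI hv))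
  have hWc : ∀ v ∈ WG S, ∀ w ∈ WG S, v * w = w * v := by
    rintro _ ⟨v, hv, rfl⟩ _ ⟨w, hw, rfl⟩
    exact congrArg Subtype.val (IsW'.comm hv (IsW'.mem_VI hw))
  -- elements of `A` normalising `W`
  have hnorm : ∀ y : ↥A, (∀ v, IsW' S v → IsW' S (y * v * y⁻¹)) → (y : G) ∈ normalizer (JG S t : Set G) := by
    intro y hy
    apply mem_normalizer_of_conj_le
    intro x hx
    rw [JG_iff hD C hZ h] at hx ⊢
    rcases hx with ⟨v, hv, rfl⟩ | ⟨v, hv, hvx⟩
    · exact Or.inl ⟨_, hy v hv, rfl⟩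
    · right
      have h1 : t * ((y : G) * x * (y : G)⁻¹) = (y : G) * (t * x) * (y : G)⁻¹ := by
        calc t * ((y : G) * x * (y : G)⁻¹) = (t * y) * x * (y : G)⁻¹ := by group
          _ = _ := by rw [tA hD C hZ h y.2]; group
      rw [h1, ← hvx]
      exact ⟨_, hy v hv, rfl⟩
  refine
    { isT := h.isT
      J_le := ?_
      t_J := htJ
      W_J := hWJ
      W_A := WG_le
      W_two := ?_
      W_cent := ?_
      omega := fun x hx _ _ => (JG_iff hD C hZ h).1 hx
      weak := fun g hg => weak hD C hZ h hq hg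
      into := ?_
      excl := ?_
      fix := ?_ }
  · intro x hx
    rcases (JG_iff hD C hZ h).1 hx with h1 | h1
    · exact hWT h1
    · have h2 : x = t * (t * x) := by rw [← mul_assoc, tt C.ht, one_mul]
      rw [h2]
      exact mul_mem h.isT.mem (hWT h1)
  · rintro _ ⟨v, hv, rfl⟩
    exact congrArg Subtype.val (W_sq hD hv)
  · intro w hw j hj
    rcases (JG_iff hD C hZ h).1 hj with h1 | h1
    · exact hWc w hw j h1
    · have h2 := hWc w hw _ h1
      have h3 := tA hD C hZ h (WG_le hw)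
      have h4 : t * (w * j) = t * (j * w) := by
        calc t * (w * j) = (t * w) * j := by group
          _ = w * (t * j) := by rw [h3]; group
          _ = t * j * w := h2
          _ = t * (j * w) := by group
      exact mul_left_cancel h4
  · intro u hu huA huu
    obtain ⟨a, ha⟩ := into hD ((h.TU ⟨u, huA⟩).1 hu) (Subtype.ext huu)
    exact ⟨a, a.2, ⟨_, ha, rfl⟩⟩
  · intro g hg
    refine conj_not_mem htW htJ hWJ (fun x hx => (JG_iff hD C hZ h).1 hx) ?_ ?_ hg
    · intro k hk hkJ w hw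
      have h1 : k * w * k⁻¹ ∈ JG S t := conj_mem_of_mem_normalizer hkJ (hWJ hw)
      rcases (JG_iff hD C hZ h).1 h1 with h2 | h2
      · exact h2
      · exfalso
        apply t_not_mem hD C hZ h
        have hkN := mem_normalizer_of_comm C.std C.ht C.htA hk
        have h3 : k * w * k⁻¹ ∈ A := conj_mem_of_mem_normalizer hkN (WG_le hw)
        have h4 : t = t * (k * w * k⁻¹) * (k * w * k⁻¹)⁻¹ := by group
        rw [h4]
        exact mul_mem (WG_le h2) (inv_mem h3)
    · rintro _ ⟨w, hw, rfl⟩ hw1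
      obtain ⟨y, hy, hyw, v, hv, hyv⟩ := good hD hw (fun hh => hw1 (by rw [hh]; rfl))
      refine ⟨y, (tA hD C hZ h y.2).symm, ?_, congrArg Subtype.val hyw, v, ⟨v, hv, rfl⟩, congrArg Subtype.val hyv⟩
      rintro _ ⟨v', hv', rfl⟩
      exact ⟨_, hy v' hv', rfl⟩
  · rintro _ ⟨w, hw, rfl⟩ hfix
    have h1 := eq_one_of_fixed hD hw
      (fun a => Subtype.ext (hfix _ (S.m.x a).2 (hnorm _ fun v hv => W_x hD hv a)))
      (Subtype.ext (hfix _ S.m.nI.2 (hnorm _ fun v hv => W_nI hD hv)))
    rw [h1]; rfl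

end Cfsg.Agent.StdRank2.UStart
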