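import Cfsg.Agent.StdRank2.UStart.Data

/-!
# `|R| = 2` and the mover: an element of `N(T)` maps `t` to `t z₁(r)`, `r = (0, k)`, `k ≠ 0`
-/

set_option autoImplicit false
set_option linter.unusedSectionVars false

namespace Cfsg.Agent.StdRank2.UStart

open Subgroup
open Cfsg.Agent.TitsThree.B2Pkg Cfsg.Agent.TitsThree.RankTwoIdentB2
  Cfsg.Agent.TitsThree.CoreB2 Cfsg.Agent.TitsThree.RankTwoIdx Cfsg.Agent.TitsThree.RankTwoRGD
open Cfsg.Agent.StdRank2.OddLift Cfsg.Agent.StdRank2.B2Lift Cfsg.Agent.StdRank2.B2Std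
  Cfsg.Agent.StdRank2.B2Torus Cfsg.Agent.StdRank2.B2Act Cfsg.Agent.StdRank2.B2Act.Std
  Cfsg.Agent.StdRank2.B2Par Cfsg.Agent.StdRank2.B2Par.Std Cfsg.Agent.StdRank2.B2Self
  Cfsg.Agent.StdRank2.B2Amb
open Cfsg Cfsg.Agent.SignalizersComponents Cfsg.Agent.StdEven.Syl Cfsg.Agent.StdEven.Loc
open Cfsg.Agent.StdEven.Perf Cfsg.Agent.StdEven.Avg Cfsg.Agent.StdL2.Setup Cfsg.Agent.Schreier.Basic
open Cfsg.Agent.StdEven
open scoped commutatorElement

universe u

section inA

variable {F : Type*} [Field F] [Finite F] [CharP F 2] {V : Type*} [AddCommGroup V] [Module F V]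
  {D : PQDatum F V} {A : Type u} [Group A] {S : B2Std.Std D A} (hD : UDat D)
include hD

/-- `C_U(W) = V_I`. -/
theorem PX_of_cent {u : A} (hu : u ∈ S.U) (hc : ∀ v, IsW' S v → u * v = v * u) : PX S u 0 := by
  obtain ⟨a, ha⟩ := exists_PX hu
  by_cases ha0 : a = 0
  · rwa [ha0] at ha
  exfalso
  set s1 : D.T := hD.c0 (map_one D.σ) with hs1
  have hv : IsW' S (nf S.m 0 1 0 s1) := nf_mem_W rfl rfl 0
  obtain ⟨r, b, -, -, h1⟩ := of_comm_PX hD ha0 ha hv (hc _ hv)
  obtain ⟨-, -, -, h2⟩ := S.nf_inj h1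
  have h3 := congrArg PQDatum.T.c h2
  have h4 : (1 : F) = 0 := h3
  exact one_ne_zero h4

/-- `Z(V_I) = W`. -/
theorem mem_W_of_cent {v : A} (hv : PX S v 0) (hc : ∀ u, PX S u 0 → v * u = u * v) : IsW' S v := by
  obtain ⟨p, b, q, rfl⟩ := hv
  have e1 : ∀ r : D.T, D.sc (-0) r = 1 := by
    intro r
    refine T_ext ?_ ?_
    · rw [PQDatum.sc_w, neg_zero, map_zero, zero_smul]; rfl
    · rw [PQDatum.sc_c, neg_zero, zero_mul, zero_mul]; rfl
  have key : ∀ p' q' : D.T, D.h q.w p'.w = D.h q'.w p.w := by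
    intro p' q'
    have h1 := hc (nf S.m 0 p' 0 q') ⟨_, _, _, rfl⟩
    rw [mul_nf S.rel, mul_nf S.rel] at h1
    obtain ⟨-, -, h2, -⟩ := S.nf_inj h1
    linear_combination h2
  have h1 : q.w = 0 := by
    apply hD.ani
    rw [key q 1, PQDatum.T.one_w, D.zero_left]
  have h2 : p.w = 0 := by
    apply hD.ani
    rw [← key 1 p, PQDatum.T.one_w, D.zero_right]
  exact nf_mem_W h2 h1 b

/-- Elements of `W` centralised by `x(F)` lie in `z₁(0,·)`. -/
theorem eq_z₁ {v : A} (hv : IsW' S v) (hx : ∀ a, S.m.x a * v = v * S.m.x a) :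
    ∃ r : D.T, r.w = 0 ∧ v = S.m.z₁ r := by
  obtain ⟨r, b, hr, h1, rfl⟩ := of_comm hD one_ne_zero hv (hx 1)
  have hb : b = 0 := by
    by_contra hb
    obtain ⟨a, ha⟩ := hD.exists_tr_eq hb (r := hD.c0 (map_one D.σ)) rfl
    have ha0 : a ≠ 0 := by
      rintro rfl
      rw [tr_zero_right hD] at ha
      exact one_ne_zero (congrArg PQDatum.T.c ha).symm
    obtain ⟨r', b', -, h2, h3⟩ := of_comm hD ha0 hv (hx a)
    obtain ⟨-, -, h4, -⟩ := S.nf_inj h3
    rw [← h4, tr_comm hD, ha] at h2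
    exact one_ne_zero (congrArg PQDatum.T.c h2)
  subst hb
  exact ⟨r, hr, (z₁_eq_nf S.rel r).symm⟩

end inA

variable {F : Type*} [Field F] [Finite F] [CharP F 2] {V : Type*} [AddCommGroup V] [Module F V]
  {D : PQDatum F V}
variable {G : Type u} [Group G] {A L : Subgroup G} {S : B2Std.Std D ↥A} {t : G} {T : Subgroup G}
variable [Finite G] (hD : UDat D) (C : Conf L A t) (hZ : Odd (Nat.card (center ↥A)))
  (h : Sit S t T)
include hD C hZ h

/-- Elements of `C_T(J)`. -/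
theorem of_cent {x : G} (hq : 1 < Nat.card (Fx D)) (hx : x ∈ T) (hc : ∀ w ∈ WG S, x * w = w * x) :
    ∃ v : ↥A, PX S v 0 ∧ ∃ r ∈ T, r ∈ centralizer (A : Set G) ∧ x = v * r := by
  have hinner : ∃ a ∈ A, a⁻¹ * x ∈ centralizer (A : Set G) := by
    obtain ⟨l, ρ, hl, h1, h2⟩ := h.sem x hx
    apply h2
    by_contra h3
    have hfN := h.isT.norm hx
    have h4 := card_le_of_semi (f := cjA hfN) (l := l) (C := WS S) hD h3 (fun r hr => by
      obtain ⟨r', hr', e⟩ := h1.z r hr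
      exact ⟨r', hr', Subtype.ext e⟩) (fun b => by
      obtain ⟨r', hr', e⟩ := h1.y b
      exact ⟨r', hr', Subtype.ext e⟩) le_rfl (fun v hv => by
      apply Subtype.ext
      show x * v * x⁻¹ = v
      rw [mul_inv_eq_iff_eq_mul]
      exact hc _ ⟨v, hv, rfl⟩)
    rw [card_W hD] at h4
    have h5 : Nat.card (Fx D) ^ 3 < Nat.card (Fx D) ^ 4 := Nat.pow_lt_pow_right hq (by norm_num)
    omega
  obtain ⟨a, ha, hxa⟩ := hinner
  obtain ⟨v, hvT, hvA, r, hrT, hrK, hfe⟩ := h.isT.exists_of_inner hx ha hxa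
  refine ⟨⟨v, hvA⟩, ?_, r, hrT, hrK, hfe⟩
  apply PX_of_cent hD ((h.TU ⟨v, hvA⟩).1 hvT)
  intro w hw
  apply Subtype.ext
  have h1 := hc (w : G) ⟨w, hw, rfl⟩
  rw [hfe] at h1
  have h2 : r * (w : G) = w * r := comm_of_centralizer hrK w.2
  have h3 : v * (w : G) * r = (w : G) * v * r := by
    calc v * (w : G) * r = v * (r * w) := by rw [h2]; group
      _ = v * r * w := by group
      _ = (w : G) * (v * r) := h1
      _ = _ := by group
  exact mul_right_cancel h3

/-- **`|R| = 2`.** -/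
theorem R_eq (hq : 2 < Nat.card (Fx D)) (hS : Sch ↥A) (hO : StepFour.Outer A t T) {r : G} (hr : r ∈ T)
    (hrK : r ∈ centralizer (A : Set G)) : r = 1 ∨ r = t := by
  have hd := data hD C hZ h hq
  -- an involution of `A`
  have h1 : (S.m.z₁ (hD.c0 (map_one D.σ)) : ↥A) ≠ 1 := by
    intro h1
    rw [z₁_eq_nf S.rel, ← nf_one S.rel] at h1
    have h2 := congrArg PQDatum.T.c (S.nf_inj h1).2.1
    have h3 : (1 : F) = 0 := h2
    exact one_ne_zero h3
  have h2 : (S.m.z₁ (hD.c0 (map_one D.σ)) : ↥A) * S.m.z₁ (hD.c0 (map_one D.σ)) = 1 := by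
    rw [← S.rel.z₁_mul, hD.sq rfl, mul_one' S.rel.z₁_mul]
  -- the centre of `C_T(J)`
  let Cn : Subgroup G := T ⊓ centralizer (JG S t : Set G)
  let X : Subgroup G := Cn ⊓ centralizer (Cn : Set G)
  have hCn : ∀ x ∈ Cn, ∃ v : ↥A, PX S v 0 ∧ ∃ r ∈ T, r ∈ centralizer (A : Set G) ∧ x = v * r := by
    intro x hx
    apply of_cent hD C hZ h (by omega) hx.1
    intro w hw
    exact comm_of_centralizer hx.2 (hd.W_J hw)
  have hKCn : ∀ x ∈ T, x ∈ centralizer (A : Set G) → x ∈ Cn := by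
    intro x hx hxK
    refine mem_inf.2 ⟨hx, ?_⟩
    rw [mem_centralizer_iff]
    intro j hj
    rcases (JG_iff hD C hZ h).1 hj with h3 | h3
    · exact (comm_of_centralizer hxK (WG_le h3)).symm
    · have h4 := comm_of_centralizer hxK (WG_le h3)
      have h5 := h.isT.cent x hx
      have h6 : t * (j * x) = t * (x * j) := by
        calc t * (j * x) = t * j * x := by group
          _ = x * (t * j) := h4.symm
          _ = (x * t) * j := by group
          _ = t * (x * j) := by rw [h5]; group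
      exact mul_left_cancel h6
  have hVCn : ∀ v : ↥A, PX S v 0 → (v : G) ∈ Cn := by
    intro v hv
    refine mem_inf.2 ⟨(h.TU v).2 hv.mem, ?_⟩
    rw [mem_centralizer_iff]
    have hvW : ∀ w ∈ WG S, w * (v : G) = v * w := by
      rintro _ ⟨w, hw, rfl⟩
      exact congrArg Subtype.val (IsW'.comm hw (mem_VI_iff.2 hv))
    intro j hj
    rcases (JG_iff hD C hZ h).1 hj with h3 | h3
    · exact hvW j h3
    · have h4 := hvW _ h3
      have h5 := tA hD C hZ h v.2
      have h6 : t * (j * v) = t * (v * j) := by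
        calc t * (j * v) = t * j * v := by group
          _ = v * (t * j) := h4
          _ = ((v : G) * t) * j := by group
          _ = t * (v * j) := by rw [← h5]; group
      exact mul_left_cancel h6
  have hRcomm : ∀ r ∈ T, r ∈ centralizer (A : Set G) → ∀ s ∈ T, s ∈ centralizer (A : Set G) →
      r * s = s * r := by
    intro r hr hrK s hs hsK
    have h3 : IsPGroup 2 ↥(T ⊓ centralizer (A : Set G) : Subgroup G) := h.isT.syl.two.to_le inf_le_left
    have h4 : IsCyclic ↥(T ⊓ centralizer (A : Set G) : Subgroup G) :=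
      StdSz.FromStd.isCyclic_of_le C.cyc h3 inf_le_right
    have h5 := (@IsCyclic.commGroup _ _ h4).mul_comm ⟨r, hr, hrK⟩ ⟨s, hs, hsK⟩
    exact congrArg Subtype.val h5
  refine hd.R_eq C hZ hS hO (u := (S.m.z₁ (hD.c0 (map_one D.σ)) : G)) (S.m.z₁ _).2
    (fun hh => h1 (Subtype.ext hh)) (congrArg Subtype.val h2) (X := X) ?_ ?_ ?_ hr hrK
  · intro r hr hrK
    refine mem_inf.2 ⟨hKCn r hr hrK, ?_⟩
    rw [mem_centralizer_iff]
    intro x hx
    obtain ⟨v, hv, s, hs, hsK, rfl⟩ := hCn x hx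
    have h3 := comm_of_centralizer hrK v.2
    have h4 := hRcomm r hr hrK s hs hsK
    calc (v : G) * s * r = v * (r * s) := by rw [h4]; group
      _ = ((v : G) * r) * s := by group
      _ = r * (v * s) := by rw [← h3]; group
  · intro x hx
    obtain ⟨v, hv, s, hs, hsK, hxe⟩ := hCn x hx.1
    have h3 : IsW' S v := by
      apply mem_W_of_cent hD hv
      intro u hu
      apply Subtype.ext
      have h4 := comm_of_centralizer hx.2 (hVCn u hu)
      rw [hxe] at h4
      have h5 := comm_of_centralizer hsK u.2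
      have h6 : (v : G) * u * s = (u : G) * v * s := by
        calc (v : G) * u * s = v * (s * u) := by rw [h5]; group
          _ = (v : G) * s * u := by group
          _ = (u : G) * (v * s) := h4
          _ = _ := by group
      exact mul_right_cancel h6
    exact ⟨v, v.2, congrArg Subtype.val (W_sq hD h3), s, hs, hsK, hxe⟩
  · intro g hg x hx
    have hgJ := hd.normalizer_T_le hg
    have hgC : g ∈ normalizer (Cn : Set G) := by
      apply mem_normalizer_of_conj_le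
      intro y hy
      exact ⟨conj_mem_of_mem_normalizer hg hy.1,
        conj_mem_of_mem_normalizer (normalizer_le_normalizer_centralizer _ hgJ) hy.2⟩
    exact ⟨conj_mem_of_mem_normalizer hgC hx.1,
      conj_mem_of_mem_normalizer (normalizer_le_normalizer_centralizer _ hgC) hx.2⟩

/-- **The mover.** -/
theorem exists_mover (hq : 2 < Nat.card (Fx D)) (hS : Sch ↥A) (hO : StepFour.Outer A t T) :
    ∃ g ∈ normalizer (T : Set G), (∃ k : ℕ, g ^ 2 ^ k = 1) ∧ ∃ r : D.T, r.w = 0 ∧ r ≠ 1 ∧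
      g * t * g⁻¹ = t * (S.m.z₁ r : ↥A) := by
  have hd := data hD C hZ h hq
  have h1 : (S.m.z₁ (hD.c0 (map_one D.σ)) : ↥A) ≠ 1 := by
    intro h1
    rw [z₁_eq_nf S.rel, ← nf_one S.rel] at h1
    have h2 := congrArg PQDatum.T.c (S.nf_inj h1).2.1
    have h3 : (1 : F) = 0 := h2
    exact one_ne_zero h3
  have h2 : (S.m.z₁ (hD.c0 (map_one D.σ)) : ↥A) * S.m.z₁ (hD.c0 (map_one D.σ)) = 1 := by
    rw [← S.rel.z₁_mul, hD.sq rfl, mul_one' S.rel.z₁_mul]
  have hns := hd.not_syl C hZ hS hO (u := (S.m.z₁ (hD.c0 (map_one D.σ)) : G)) (S.m.z₁ _).2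
    (fun hh => h1 (Subtype.ext hh)) (congrArg Subtype.val h2)
  obtain ⟨g, hg, hk, v, hv, hv1, hvT, hgt⟩ := hd.exists_normalizer C hns
  obtain ⟨v, hv, rfl⟩ := hv
  obtain ⟨r, hr, hvr⟩ := eq_z₁ hD hv (fun a => Subtype.ext (hvT _ ((h.TU _).2 (x_mem a))))
  refine ⟨g, hg, hk, r, hr, ?_, ?_⟩
  · rintro rfl
    apply hv1
    rw [hvr, mul_one' S.rel.z₁_mul]; rfl
  · rw [hgt, hvr]; rfl

end Cfsg.Agent.StdRank2.UStart
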