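import Cfsg.Agent.StdRank2.UStart.Base
import Cfsg.Agent.StdRank2.OutField

/-!
# The module `W`: actions of `x a`, `n_I`; commutators; orders of elementary subgroups
-/

set_option autoImplicit false
set_option linter.unusedSectionVars false

namespace Cfsg.Agent.StdRank2.UStart

open Subgroup
open Cfsg.Agent.TitsThree.B2Pkg Cfsg.Agent.TitsThree.RankTwoIdentB2
  Cfsg.Agent.TitsThree.CoreB2 Cfsg.Agent.TitsThree.RankTwoIdx Cfsg.Agent.TitsThree.RankTwoRGD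
open Cfsg.Agent.StdRank2.OddLift Cfsg.Agent.StdRank2.B2Lift Cfsg.Agent.StdRank2.B2Std
  Cfsg.Agent.StdRank2.B2Torus Cfsg.Agent.StdRank2.B2Act Cfsg.Agent.StdRank2.B2Act.Std
  Cfsg.Agent.StdRank2.B2Par Cfsg.Agent.StdRank2.B2Par.Std Cfsg.Agent.StdRank2.B2Self
  Cfsg.Agent.StdRank2.B2Amb
open scoped commutatorElement

universe u

variable {F : Type*} [Field F] {V : Type*} [AddCommGroup V] [Module F V] {D : PQDatum F V}

theorem mul_c_left {p : D.T} (hp : p.w = 0) (q : D.T) : (p * q).c = p.c + q.c := by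
  rw [PQDatum.T.mul_c, hp, D.zero_right, sub_zero]

theorem mul_w_zero {p q : D.T} (hp : p.w = 0) (hq : q.w = 0) : (p * q).w = 0 := by
  rw [PQDatum.T.mul_w, hp, hq, add_zero]

theorem sc_w_zero (a : F) {p : D.T} (hp : p.w = 0) : (D.sc a p).w = 0 := by
  rw [PQDatum.sc_w, hp, smul_zero]

variable {A : Type u} [Group A] {S : B2Std.Std D A} [Finite F] [CharP F 2] (hD : UDat D)
include hD

theorem tr_zero_left (b : F) : D.tr 0 b = 1 := by
  refine T_ext (by rfl) ?_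
  rw [hD.tr_c, map_zero, zero_mul, zero_mul, add_zero]; rfl

theorem tr_zero_right (b : F) : D.tr b 0 = 1 := by
  refine T_ext (by rfl) ?_
  rw [hD.tr_c, map_zero, mul_zero, mul_zero, add_zero]; rfl

theorem tr_comm (a b : F) : D.tr a b = D.tr b a := by
  refine T_ext (by rfl) ?_
  rw [hD.tr_c, hD.tr_c]; ring

/-- The action of `x a` on `W`. -/
theorem x_conj {r s : D.T} (hr : r.w = 0) (hs : s.w = 0) (a b : F) :
    S.m.x a * nf S.m 0 r b s * (S.m.x a)⁻¹ = nf S.m 0 (r * (D.tr a b * D.sc a s)) (b + a * s.c) s := by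
  have h1 : (D.sc a s).w = 0 := sc_w_zero a hs
  have h2 : (D.sc (-a) s).w = 0 := sc_w_zero (-a) hs
  have h3 : (D.tr a b * D.sc a s).w = 0 := mul_w_zero rfl h1
  have h4 : (r * (D.tr a b * D.sc a s)).w = 0 := mul_w_zero hr h3
  have e0 : (D.tr a (b + a * s.c))⁻¹ = D.tr a (b + a * s.c) := hD.inv_eq rfl
  have h5 : (r * (D.tr a b * D.sc a s) * (D.tr a (b + a * s.c))⁻¹).w = 0 := by
    rw [e0]; exact mul_w_zero h4 rfl
  have hsc := hD.σ_c hs
  rw [mul_inv_eq_iff_eq_mul, x_eq_nf S.rel, mul_nf S.rel, mul_nf S.rel, tr_zero_left hD, hs, D.zero_left,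
    PQDatum.T.one_w, D.zero_left, hD.ε, hsc, PQDatum.T.one_c, map_zero]
  congr 1
  · ring
  · have e2 : D.sc (-0) (1 : D.T) = 1 := by
      refine T_ext ?_ ?_
      · rw [PQDatum.sc_w, PQDatum.T.one_w, smul_zero]
      · rw [PQDatum.sc_c, PQDatum.T.one_c, mul_zero]
    rw [e2, inv_one, mul_one, mul_one, one_mul, mul_one]
    refine T_ext ?_ ?_
    · rw [PQDatum.T.mul_w, h5, h2, hr, add_zero]
    · rw [mul_c_left h5, mul_c_left h4, e0, mul_c_left hr, mul_c_left (by rfl), hD.tr_c, hD.tr_c,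
        PQDatum.sc_c, PQDatum.sc_c]
      simp only [map_add, map_mul, map_neg, hsc]
      have h6 : (1 : F) + 1 = 0 := CharTwo.add_self_eq_zero 1
      linear_combination (-(D.σ a * b + a * D.σ b + 2 * (a * D.σ a * s.c))) * h6
  · have h6 : a * s.c + a * s.c = 0 := CharTwo.add_self_eq_zero _
    linear_combination (-h6)
  · rw [one_mul, mul_one]

/-- The action of `n_I` on `W`. -/
theorem nI_conj' {r s : D.T} (hr : r.w = 0) (hs : s.w = 0) (b : F) :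
    S.m.nI * nf S.m 0 r b s * S.m.nI⁻¹ = nf S.m 0 s (D.σ b) r := by
  have e1 : D.sc (-1) r = r := by
    refine T_ext ?_ ?_
    · rw [PQDatum.sc_w, hr, smul_zero]
    · rw [PQDatum.sc_c, map_neg, map_one]; ring
  have h1 := S.rel.nI_z₁ r
  have h2 := S.rel.nI_y b
  have h3 := S.rel.nI_z₂ s
  rw [e1] at h1
  rw [hD.ε, one_mul] at h2
  have h4 : S.m.nI * nf S.m 0 r b s * S.m.nI⁻¹ = S.m.z₂ r * S.m.y (D.σ b) * S.m.z₁ s := by
    unfold B2Std.nf
    rw [add_zero' S.rel.x_add, one_mul, ← h1, ← h2, ← h3]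
    group
  rw [h4]
  unfold B2Std.nf
  rw [add_zero' S.rel.x_add, one_mul]
  have c1 : S.m.z₂ r * (S.m.y (D.σ b) * S.m.z₁ s) = S.m.y (D.σ b) * S.m.z₁ s * S.m.z₂ r :=
    z₂_comm_VI hr (mul_mem (S.y_mem_VI _) (S.z₁_mem_VI s))
  rw [mul_assoc, c1, (S.rel.y_z₁ _ _).eq]

theorem W_x {v : A} (hv : IsW' S v) (a : F) : IsW' S (S.m.x a * v * (S.m.x a)⁻¹) :=
  hv.conj (x_mem a)

theorem W_x' {v : A} (hv : IsW' S v) (a : F) : IsW' S ((S.m.x a)⁻¹ * v * S.m.x a) := by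
  have := hv.conj (inv_mem (x_mem (m := S.m) a) : (S.m.x a)⁻¹ ∈ S.U)
  rwa [inv_inv] at this

theorem W_nI {v : A} (hv : IsW' S v) : IsW' S (S.m.nI * v * S.m.nI⁻¹) := by
  obtain ⟨r, b, s, hr, hs, rfl⟩ := isW_iff.1 hv
  rw [nI_conj' hD hr hs]
  exact nf_mem_W hs hr _

theorem W_nI' {v : A} (hv : IsW' S v) : IsW' S (S.m.nI⁻¹ * v * S.m.nI) := by
  obtain ⟨r, b, s, hr, hs, rfl⟩ := isW_iff.1 hv
  have h1 := nI_conj' (S := S) hD hs hr (D.σ b)
  rw [D.σσ] at h1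
  rw [← h1]
  have h2 : S.m.nI⁻¹ * (S.m.nI * nf S.m 0 s (D.σ b) r * S.m.nI⁻¹) * S.m.nI = nf S.m 0 s (D.σ b) r := by group
  rw [h2]
  exact nf_mem_W hs hr _

/-- Elements of `W` commuting with `x a`, `a ≠ 0`. -/
theorem of_comm {a : F} (ha : a ≠ 0) {v : A} (hv : IsW' S v) (hc : S.m.x a * v = v * S.m.x a) :
    ∃ r b, r.w = 0 ∧ D.tr a b = 1 ∧ v = nf S.m 0 r b 1 := by
  obtain ⟨r, b, s, hr, hs, rfl⟩ := isW_iff.1 hv
  have h1 := x_conj (S := S) hD hr hs a b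
  rw [hc, mul_inv_cancel_right] at h1
  obtain ⟨-, h2, h3, -⟩ := S.nf_inj h1
  have h4 : a * s.c = 0 := by linear_combination -h3
  have h5 : s = 1 := PQDatum.T.c_eq_zero_iff.1 ((mul_eq_zero.1 h4).resolve_left ha)
  subst h5
  have e2 : D.sc a (1 : D.T) = 1 := by
    refine T_ext ?_ ?_
    · rw [PQDatum.sc_w, PQDatum.T.one_w, smul_zero]
    · rw [PQDatum.sc_c, PQDatum.T.one_c, mul_zero]
  rw [e2, mul_one] at h2
  exact ⟨r, b, hr, left_eq_mul.1 h2, rfl⟩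

/-- `C_W(x(F), n_I) = 1`. -/
theorem eq_one_of_fixed {v : A} (hv : IsW' S v) (hx : ∀ a, S.m.x a * v = v * S.m.x a)
    (hn : S.m.nI * v = v * S.m.nI) : v = 1 := by
  obtain ⟨r, b, hr, h1, rfl⟩ := of_comm hD one_ne_zero hv (hx 1)
  have hb : b = 0 := by
    by_contra hb
    obtain ⟨a, ha⟩ := hD.exists_tr_eq hb (r := hD.c0 (map_one D.σ)) rfl
    have ha0 : a ≠ 0 := by
      rintro rfl
      rw [tr_zero_right hD] at ha
      exact one_ne_zero (congrArg PQDatum.T.c ha).symm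
    obtain ⟨r', b', -, h2, h3⟩ := of_comm hD ha0 hv (hx a)
    obtain ⟨-, -, h4, -⟩ := S.nf_inj h3
    rw [← h4, tr_comm hD, ha] at h2
    exact one_ne_zero (congrArg PQDatum.T.c h2)
  subst hb
  have h2 := nI_conj' (S := S) hD hr (s := 1) rfl 0
  rw [hn, mul_inv_cancel_right] at h2
  obtain ⟨-, h3, -, -⟩ := S.nf_inj h2
  rw [h3]
  exact nf_one S.rel

/-- `w` is a commutator `[y, v]` with `y ∈ N(W) ∩ C(w)`, `v ∈ W`. -/
def Good (S : B2Std.Std D A) (w : A) : Prop :=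
  ∃ y : A, (∀ v, IsW' S v → IsW' S (y * v * y⁻¹)) ∧ y * w = w * y ∧ ∃ v, IsW' S v ∧ y * v * y⁻¹ = w * v

omit [Finite F] [CharP F 2] hD in
theorem Good.of_conj {n w : A} (h1 : ∀ v, IsW' S v → IsW' S (n * v * n⁻¹))
    (h2 : ∀ v, IsW' S v → IsW' S (n⁻¹ * v * n)) (h : Good S (n * w * n⁻¹)) : Good S w := by
  obtain ⟨y, hy, hc, v, hv, hyv⟩ := h
  refine ⟨n⁻¹ * y * n, fun u hu => ?_, ?_, n⁻¹ * v * n, h2 v hv, ?_⟩
  · have h3 := h2 _ (hy _ (h1 _ hu))
    have h4 : n⁻¹ * (y * (n * u * n⁻¹) * y⁻¹) * n = n⁻¹ * y * n * u * (n⁻¹ * y * n)⁻¹ := by group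
    rwa [h4] at h3
  · calc n⁻¹ * y * n * w = n⁻¹ * (y * (n * w * n⁻¹)) * n := by group
      _ = n⁻¹ * (n * w * n⁻¹ * y) * n := by rw [hc]
      _ = w * (n⁻¹ * y * n) := by group
  · calc n⁻¹ * y * n * (n⁻¹ * v * n) * (n⁻¹ * y * n)⁻¹ = n⁻¹ * (y * v * y⁻¹) * n := by group
      _ = n⁻¹ * (n * w * n⁻¹ * v) * n := by rw [hyv]
      _ = w * (n⁻¹ * v * n) := by group

theorem good_aux {r : D.T} (hr : r.w = 0) (b : F) (h1 : nf S.m 0 r b 1 ≠ 1) : Good S (nf S.m 0 r b 1) := by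
  by_cases hb : b = 0
  · subst hb
    obtain ⟨c, hc⟩ := hD.exists_tr_eq one_ne_zero hr
    refine ⟨S.m.x 1, fun v hv => W_x hD hv 1, ?_, nf S.m 0 1 c 1, nf_mem_W rfl rfl _, ?_⟩
    · have h2 := x_conj (S := S) hD hr (s := 1) rfl 1 0
      rw [mul_inv_eq_iff_eq_mul] at h2
      rw [h2]
      congr 2
      · rw [tr_zero_right hD, one_mul, D.sc_one, mul_one]
      · rw [PQDatum.T.one_c, mul_zero, add_zero]
    · rw [x_conj hD rfl rfl, hc, mul_nf S.rel, D.sc_one]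
      congr 1
      · rw [add_zero]
      · have e2 : D.sc (-0) (1 : D.T) = 1 := by
          refine T_ext ?_ ?_
          · rw [PQDatum.sc_w, PQDatum.T.one_w, smul_zero]
          · rw [PQDatum.sc_c, PQDatum.T.one_c, mul_zero]
        rw [tr_zero_left hD, e2, inv_one]
        group
      · rw [PQDatum.T.one_w, D.zero_left, PQDatum.T.one_c]
        ring
      · rw [one_mul]
  · set s1 : D.T := hD.c0 (map_one D.σ) with hs1
    have hs1w : s1.w = 0 := rfl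
    have hs1c : s1.c = 1 := rfl
    have h2 : (r * (D.sc b s1)⁻¹).w = 0 := by
      rw [hD.inv_eq (sc_w_zero b hs1w)]
      exact mul_w_zero hr (sc_w_zero b hs1w)
    obtain ⟨c, hc⟩ := hD.exists_tr_eq hb h2
    refine ⟨S.m.x b, fun v hv => W_x hD hv b, ?_, nf S.m 0 1 c s1, nf_mem_W rfl rfl _, ?_⟩
    · have h2 := x_conj (S := S) hD hr (s := 1) rfl b b
      rw [mul_inv_eq_iff_eq_mul] at h2
      rw [h2]
      have e2 : D.sc b (1 : D.T) = 1 := by
        refine T_ext ?_ ?_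
        · rw [PQDatum.sc_w, PQDatum.T.one_w, smul_zero]
        · rw [PQDatum.sc_c, PQDatum.T.one_c, mul_zero]
      rw [hD.tr_self, e2, one_mul, mul_one, PQDatum.T.one_c, mul_zero, add_zero]
    · rw [x_conj hD rfl rfl, hc, mul_nf S.rel, inv_mul_cancel_right, hs1c, one_mul, mul_one]
      have e2 : D.sc (-0) (1 : D.T) = 1 := by
        refine T_ext ?_ ?_
        · rw [PQDatum.sc_w, PQDatum.T.one_w, smul_zero]
        · rw [PQDatum.sc_c, PQDatum.T.one_c, mul_zero]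
      rw [tr_zero_left hD, e2, inv_one, PQDatum.T.one_w, D.zero_left, PQDatum.T.one_c, one_mul, map_zero]
      congr 1
      · rw [add_zero]
      · group
      · ring

/-- Every `w ∈ W#` is a commutator. -/
theorem good {w : A} (hw : IsW' S w) (h1 : w ≠ 1) : Good S w := by
  obtain ⟨r, b, s, hr, hs, rfl⟩ := isW_iff.1 hw
  by_cases hs1 : s = 1
  · subst hs1
    exact good_aux hD hr b h1
  have hk : s.c ≠ 0 := fun h => hs1 (PQDatum.T.c_eq_zero_iff.1 h)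
  apply Good.of_conj (n := S.m.x (b * s.c⁻¹)) (fun v hv => W_x hD hv _) (fun v hv => W_x' hD hv _)
  rw [x_conj hD hr hs]
  have e1 : b + b * s.c⁻¹ * s.c = 0 := by
    rw [mul_assoc, inv_mul_cancel₀ hk, mul_one, CharTwo.add_self_eq_zero]
  rw [e1]
  set r1 := r * (D.tr (b * s.c⁻¹) b * D.sc (b * s.c⁻¹) s) with hr1
  have hr1w : r1.w = 0 := mul_w_zero hr (mul_w_zero rfl (sc_w_zero _ hs))
  obtain ⟨e, he⟩ := OutField.exists_sqrt (r1.c * s.c⁻¹)
  have hσe : D.σ e = e := by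
    have h2 : D.σ e * D.σ e = e * e := by
      rw [← map_mul, he, map_mul, map_inv₀, hD.σ_c hr1w, hD.σ_c hs]
    have h3 : (D.σ e + e) * (D.σ e + e) = 0 := by
      rw [CharTwo.add_mul_self, h2, CharTwo.add_self_eq_zero]
    exact eq_of_add (mul_self_eq_zero.1 h3)
  apply Good.of_conj (n := S.m.x e) (fun v hv => W_x hD hv _) (fun v hv => W_x' hD hv _)
  rw [x_conj hD hr1w hs]
  have e3 : r1 * (D.tr e 0 * D.sc e s) = 1 := by
    rw [tr_zero_right hD, one_mul]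
    refine T_ext (mul_w_zero hr1w (sc_w_zero _ hs)) ?_
    rw [mul_c_left hr1w, PQDatum.sc_c, hσe, he, mul_assoc, inv_mul_cancel₀ hk, mul_one,
      CharTwo.add_self_eq_zero]
    rfl
  rw [e3]
  apply Good.of_conj (n := S.m.nI) (fun v hv => W_nI hD hv) (fun v hv => W_nI' hD hv)
  rw [nI_conj' hD rfl hs]
  apply good_aux hD hs
  intro h2
  rw [← nf_one S.rel] at h2
  exact hs1 (S.nf_inj h2).2.1

end Cfsg.Agent.StdRank2.UStart
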